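import Cfsg.Agent.OutTwo.FixedPoints
import Cfsg.Agent.RepBounds.FormOrbit
import Cfsg.Agent.Characters.Burnside

/-!
# The automorphism group of an elementary abelian group of order 64

`isSolvable_or_seven`: two facts replacing a primitive prime divisor of `2⁶ - 1`.
-/

set_option autoImplicit false
set_option linter.style.haveILetI false

namespace CfsgLib.OutTwo

open Subgroup

/-- Orbits of length nine. -/
theorem card_modEq_nine {α : Type*} [Finite α] (σ : Equiv.Perm α) (h : σ ^ 9 = 1) :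
    Nat.card α ≡ Nat.card {v : α // (σ ^ 3) v = v} [MOD 9] := by
  classical
  have hmul : ∀ (a b : ℕ) v, (σ ^ a) ((σ ^ b) v) = (σ ^ (a + b)) v := fun a b v => by
    rw [pow_add, Equiv.Perm.mul_apply]
  have hinv : ∀ v, ¬ (σ ^ 3) (σ v) = σ v ↔ ¬ (σ ^ 3) v = v := by
    intro v
    rw [show (σ ^ 3) (σ v) = σ ((σ ^ 3) v) by
      rw [← Equiv.Perm.mul_apply, ← Equiv.Perm.mul_apply, ← pow_succ, ← pow_succ'], σ.injective.eq_iff]
  let τ : Equiv.Perm {v : α // ¬ (σ ^ 3) v = v} := σ.subtypePerm hinv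
  have hτ : ∀ (j : ℕ) (v : {v : α // ¬ (σ ^ 3) v = v}), ((τ ^ j) v : α) = (σ ^ j) v := fun j v => by
    rw [Equiv.Perm.subtypePerm_pow]; rfl
  have hτ9 : τ ^ 9 = 1 := Equiv.ext fun v => Subtype.ext (by rw [hτ, h]; rfl)
  have hsplit : Nat.card α = Nat.card {v : α // (σ ^ 3) v = v} + Nat.card {v : α // ¬ (σ ^ 3) v = v} := by
    rw [← Nat.card_sum, Nat.card_congr (Equiv.sumCompl _)]
  have hdvd : 9 ∣ Nat.card {v : α // ¬ (σ ^ 3) v = v} := by
    rcases isEmpty_or_nonempty {v : α // ¬ (σ ^ 3) v = v} with hM | ⟨⟨m⟩⟩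
    · simp
    have hord : orderOf τ = 3 ^ 2 := by
      haveI : Fact (Nat.Prime 3) := ⟨Nat.prime_three⟩
      refine orderOf_eq_prime_pow (p := 3) (n := 1) (fun h3 => m.2 ?_) (by norm_num; exact hτ9)
      rw [pow_one] at h3
      rw [← hτ, h3]; rfl
    have hfree : ∀ b : {v : α // ¬ (σ ^ 3) v = v},
        MulAction.stabilizer (Subgroup.zpowers τ) b = ⊥ := by
      intro b
      rw [Subgroup.eq_bot_iff_forall]
      rintro ⟨c, hc⟩ hb
      obtain ⟨j, hj, rfl⟩ := Finset.mem_image.1
        ((isOfFinOrder_of_finite τ).mem_zpowers_iff_mem_range_orderOf.1 hc)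
      have hb' : (σ ^ j) (b : α) = b := by rw [← hτ]; exact congrArg Subtype.val hb
      rw [Finset.mem_range, hord] at hj
      have h9 : ∀ v, (σ ^ 9) v = v := fun v => by rw [h]; rfl
      by_contra hne
      have hj0 : j ≠ 0 := fun e => hne (Subtype.ext (by subst e; exact pow_zero τ))
      have h2j : (σ ^ (2 * j)) (b : α) = b := by rw [two_mul, ← hmul, hb', hb']
      have h3j : (σ ^ (3 * j)) (b : α) = b := by
        rw [show 3 * j = 2 * j + j by ring, ← hmul, hb', h2j]
      apply b.2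
      -- a multiple of `j` is congruent to three modulo nine
      norm_num at hj
      interval_cases j
      · omega
      all_goals first
        | exact h3j
        | exact hb'
        | (rw [show 3 * 4 = 3 + 9 by norm_num, ← hmul, h9] at h3j; exact h3j)
        | (rw [show 3 * 7 = 3 + 9 + 9 by norm_num, ← hmul, ← hmul, h9, h9] at h3j; exact h3j)
        | (rw [show 2 * 6 = 3 + 9 by norm_num, ← hmul, h9] at h2j; exact h2j)
        | (have h6 := h3j
           rw [show 3 * 2 = 6 by norm_num] at h6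
           conv_lhs => rw [← h6, hmul]
           exact h9 _)
        | (have h6 := h3j
           rw [show 3 * 5 = 6 + 9 by norm_num, ← hmul, h9] at h6
           conv_lhs => rw [← h6, hmul]
           exact h9 _)
        | (have h6 := h3j
           rw [show 3 * 8 = 6 + 9 + 9 by norm_num, ← hmul, ← hmul, h9, h9] at h6
           conv_lhs => rw [← h6, hmul]
           exact h9 _)
    have e := Nat.card_congr (MulAction.selfEquivOrbitsQuotientProd (G := Subgroup.zpowers τ) hfree)
    rw [Nat.card_prod, Nat.card_zpowers, hord] at e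
    exact ⟨_, e.trans (mul_comm _ _)⟩
  rw [hsplit]
  obtain ⟨c, hc⟩ := hdvd
  rw [hc]
  exact (Nat.add_mul_mod_self_left _ _ _)

variable {V : Type*} [Group V] [Finite V] (hV : ∀ v : V, v * v = 1)

include hV in
/-- The order of the automorphism group divides that of `GL n 2`. -/
theorem card_mulAut_dvd {n : ℕ} (hn : Nat.card V = 2 ^ n) :
    Nat.card (MulAut V) ∣ ∏ i : Fin n, (2 ^ n - 2 ^ (i : ℕ)) := by
  letI : CommGroup V := { (inferInstance : Group V) with mul_comm := comm_of_exp_two hV }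
  letI : Module (ZMod 2) (Additive V) := AddCommGroup.zmodModule (fun x => by
    rw [two_nsmul]; exact congrArg Additive.ofMul (hV x.toMul))
  haveI : FiniteDimensional (ZMod 2) (Additive V) := Module.Finite.of_finite
  have hd : Module.finrank (ZMod 2) (Additive V) = n := by
    have h1 := Module.natCard_eq_pow_finrank (K := ZMod 2) (V := Additive V)
    rw [Nat.card_zmod, show Nat.card (Additive V) = Nat.card V from rfl, hn] at h1
    exact (Nat.pow_right_injective le_rfl h1).symm
  have hc := CfsgLib.RepBounds.card_linearEquiv (F := ZMod 2) (V := Additive V) n hd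
  rw [ZMod.card 2] at hc
  rw [← hc]
  haveI : Finite (Additive V ≃ₗ[ZMod 2] Additive V) :=
    Finite.of_injective (fun f : Additive V ≃ₗ[ZMod 2] Additive V => (f : Additive V → Additive V))
      DFunLike.coe_injective
  let f : MulAut V →* (Additive V ≃ₗ[ZMod 2] Additive V) :=
    { toFun := fun φ =>
        { (MulEquiv.toAdditive φ : Additive V ≃+ Additive V) with
          map_smul' := fun c x => ZMod.map_smul (MulEquiv.toAdditive φ : Additive V ≃+ Additive V) c x }
      map_one' := rfl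
      map_mul' := fun a b => rfl }
  exact Subgroup.card_dvd_of_injective f fun a b h => MulEquiv.ext fun x =>
    Additive.ofMul.injective (DFunLike.congr_fun h (Additive.ofMul x))

theorem two_pow_eq_of_le {x : ℕ} (hx : ∃ k, x = 2 ^ k) (h : x ≤ 64) :
    x = 1 ∨ x = 2 ∨ x = 4 ∨ x = 8 ∨ x = 16 ∨ x = 32 ∨ x = 64 := by
  obtain ⟨k, rfl⟩ := hx
  have : k ≤ 6 := (Nat.pow_le_pow_iff_right (a := 2) (by norm_num)).1 (h.trans_eq (by norm_num))
  interval_cases k <;> simp

variable (h64 : Nat.card V = 64)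

include hV h64 in
theorem card_cases (H : Subgroup V) : Nat.card H = 1 ∨ Nat.card H = 2 ∨ Nat.card H = 4 ∨
    Nat.card H = 8 ∨ Nat.card H = 16 ∨ Nat.card H = 32 ∨ Nat.card H = 64 :=
  two_pow_eq_of_le (exists_card_eq_two_pow hV H) (h64 ▸ card_le_card_group H)

include h64 in
theorem eq_top_of_card_64 {H : Subgroup V} (h : Nat.card H = 64) : H = ⊤ :=
  eq_top_of_card_eq H (h.trans h64.symm)

include hV h64 in
/-- Fixed points of an element of order seven. -/
theorem card_fix_seven {g : MulAut V} (hg : g ^ 7 = 1) (hg1 : g ≠ 1) :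
    Nat.card (fixSub g) = 1 ∨ Nat.card (fixSub g) = 8 := by
  haveI : Fact (Nat.Prime 7) := ⟨by norm_num⟩
  have h := card_inf_fixSub_modEq (p := 7) (n := 1) g (by rwa [pow_one]) ⊤ fun x _ => mem_top _
  rw [top_inf_eq, Subgroup.card_top, h64] at h
  rcases card_cases hV h64 (fixSub g) with e | e | e | e | e | e | e <;> rw [e] at h ⊢ <;>
    first
    | exact Or.inl rfl
    | exact Or.inr rfl
    | exact absurd h (by decide)
    | exact absurd (eq_one_of_fixSub_eq_top (eq_top_of_card_64 h64 e)) hg1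

include hV h64 in
/-- Elements of order seven commute with none of order 5 or 31. -/
theorem not_commute_seven {e g : MulAut V} {p : ℕ} (hp : p = 5 ∨ p = 31) (he : e ^ p = 1) (he1 : e ≠ 1)
    (hg : g ^ 7 = 1) (hg1 : g ≠ 1) (hc : e * g = g * e) : False := by
  haveI : Fact (Nat.Prime 7) := ⟨by norm_num⟩
  haveI : Fact p.Prime := ⟨by rcases hp with rfl | rfl <;> norm_num⟩
  have hne : Nat.card (fixSub e) ≠ 64 := fun h =>
    he1 (eq_one_of_fixSub_eq_top (eq_top_of_card_64 h64 h))
  have he64 := card_inf_fixSub_modEq (p := p) (n := 1) e (by rwa [pow_one]) ⊤ fun x _ => mem_top _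
  rw [top_inf_eq, Subgroup.card_top, h64] at he64
  have hje : Nat.card (fixSub e) = 2 ∨ Nat.card (fixSub e) = 4 := by
    rcases hp with rfl | rfl <;>
      rcases card_cases hV h64 (fixSub e) with h | h | h | h | h | h | h <;> rw [h] at he64 ⊢ <;>
      first
      | exact Or.inl rfl
      | exact Or.inr rfl
      | exact absurd he64 (by decide)
      | exact absurd h hne
  have hge := card_inf_fixSub_modEq (p := 7) (n := 1) g (by rwa [pow_one]) (fixSub e)
    (fixSub_invariant hc)
  have hle : Nat.card (fixSub e ⊓ fixSub g : Subgroup V) ≤ Nat.card (fixSub e) :=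
    card_le_of_le inf_le_left
  have hinf : Nat.card (fixSub e ⊓ fixSub g : Subgroup V) = Nat.card (fixSub e) := by
    unfold Nat.ModEq at hge
    omega
  have hgt : 2 ≤ Nat.card (fixSub g) := by
    have := card_le_of_le (inf_le_right : fixSub e ⊓ fixSub g ≤ fixSub g)
    omega
  have hg8 : Nat.card (fixSub g) = 8 := by
    rcases card_fix_seven hV h64 hg hg1 with h | h <;> omega
  have heg := card_inf_fixSub_modEq (p := p) (n := 1) e (by rwa [pow_one]) (fixSub g)
    (fixSub_invariant hc.symm)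
  rw [hg8, inf_comm, hinf] at heg
  unfold Nat.ModEq at heg
  rcases hp with rfl | rfl <;> omega

include hV h64 in
/-- The fixed points of an element of order three, centralised by one of order seven. -/
theorem card_fix_three {t g : MulAut V} (ht : t ^ 3 = 1) (ht1 : t ≠ 1) (hg : g ^ 7 = 1) (hg1 : g ≠ 1)
    (hc : t * g = g * t) (hne : fixSub t ≠ ⊥) :
    Nat.card (fixSub t) = 16 ∧ Nat.card (fixSub t ⊓ fixSub g : Subgroup V) = 2 := by
  haveI : Fact (Nat.Prime 7) := ⟨by norm_num⟩
  haveI : Fact (Nat.Prime 3) := ⟨Nat.prime_three⟩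
  have h1 := card_inf_fixSub_modEq (p := 3) (n := 1) t (by rwa [pow_one]) ⊤ fun x _ => mem_top _
  rw [top_inf_eq, Subgroup.card_top, h64] at h1
  have hcases : Nat.card (fixSub t) = 4 ∨ Nat.card (fixSub t) = 16 := by
    rcases card_cases hV h64 (fixSub t) with h | h | h | h | h | h | h <;> rw [h] at h1 ⊢ <;>
      first
      | exact Or.inl rfl
      | exact Or.inr rfl
      | exact absurd h1 (by decide)
      | exact absurd (card_eq_one.1 h) hne
      | exact absurd (eq_one_of_fixSub_eq_top (eq_top_of_card_64 h64 h)) ht1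
  have h2 := card_inf_fixSub_modEq (p := 7) (n := 1) g (by rwa [pow_one]) (fixSub t)
    (fixSub_invariant hc)
  have hl1 : Nat.card (fixSub t ⊓ fixSub g : Subgroup V) ≤ Nat.card (fixSub t) :=
    card_le_of_le inf_le_left
  have hl2 : Nat.card (fixSub t ⊓ fixSub g : Subgroup V) ≤ Nat.card (fixSub g) :=
    card_le_of_le inf_le_right
  have h3 := card_inf_fixSub_modEq (p := 3) (n := 1) t (by rwa [pow_one]) (fixSub g)
    (fixSub_invariant hc.symm)
  rw [inf_comm] at h3
  unfold Nat.ModEq at h2 h3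
  have hg8 := card_fix_seven hV h64 hg hg1
  omega

include hV h64 in
/-- A further commuting element of order three fixes these points. -/
theorem fix_le_fix {t s g : MulAut V} (ht : t ^ 3 = 1) (ht1 : t ≠ 1) (hg : g ^ 7 = 1) (hg1 : g ≠ 1)
    (hc : t * g = g * t) (hne : fixSub t ≠ ⊥) (hs : s ^ 3 = 1) (hts : t * s = s * t)
    (hsg : s * g = g * s) : fixSub t ≤ fixSub s := by
  haveI : Fact (Nat.Prime 7) := ⟨by norm_num⟩
  haveI : Fact (Nat.Prime 3) := ⟨Nat.prime_three⟩
  obtain ⟨h16, h2⟩ := card_fix_three hV h64 ht ht1 hg hg1 hc hne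
  -- `s` fixes the common fixed points of `t` and `g`
  have hI : fixSub t ⊓ fixSub g ≤ fixSub s := by
    have h := card_inf_fixSub_modEq (p := 3) (n := 1) s (by rwa [pow_one]) (fixSub t ⊓ fixSub g)
      fun x hx => ⟨fixSub_invariant hts x hx.1, fixSub_invariant hsg.symm x hx.2⟩
    have hle : Nat.card (fixSub t ⊓ fixSub g ⊓ fixSub s : Subgroup V) ≤ 2 :=
      h2 ▸ card_le_of_le inf_le_left
    unfold Nat.ModEq at h
    have : Nat.card (fixSub t ⊓ fixSub g ⊓ fixSub s : Subgroup V) =
        Nat.card (fixSub t ⊓ fixSub g : Subgroup V) := by omega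
    exact (eq_of_le_of_card_ge inf_le_left this.ge).ge.trans inf_le_right
  have hD : ∀ x ∈ fixSub t ⊓ fixSub s, g x ∈ fixSub t ⊓ fixSub s := fun x hx =>
    ⟨fixSub_invariant hc x hx.1, fixSub_invariant hsg x hx.2⟩
  have h4 := card_inf_fixSub_modEq (p := 3) (n := 1) s (by rwa [pow_one]) (fixSub t)
    (fixSub_invariant hts)
  have h5 := card_inf_fixSub_modEq (p := 7) (n := 1) g (by rwa [pow_one]) _ hD
  have h6 : fixSub t ⊓ fixSub s ⊓ fixSub g = fixSub t ⊓ fixSub g :=
    le_antisymm (le_inf (inf_le_left.trans inf_le_left) inf_le_right)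
      (le_inf (le_inf inf_le_left hI) inf_le_right)
  rw [h6, h2] at h5
  have hle : Nat.card (fixSub t ⊓ fixSub s : Subgroup V) ≤ 16 := h16 ▸ card_le_of_le inf_le_left
  unfold Nat.ModEq at h4 h5
  have hcs := card_cases hV h64 (fixSub t ⊓ fixSub s)
  have : Nat.card (fixSub t ⊓ fixSub s : Subgroup V) = Nat.card (fixSub t) := by omega
  exact (eq_of_le_of_card_ge inf_le_left this.ge).ge.trans inf_le_right

include hV h64 in
/-- No noncyclic group of order nine is centralised by an element of order seven. -/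
theorem not_nine_seven {z w g : MulAut V} (hz : z ^ 3 = 1) (hw : w ^ 3 = 1) (hz1 : z ≠ 1)
    (hw1 : w ≠ 1) (hzw1 : z * w ≠ 1) (hzw2 : z * (w * w) ≠ 1) (hg : g ^ 7 = 1) (hg1 : g ≠ 1)
    (hc : z * w = w * z) (hzg : z * g = g * z) (hwg : w * g = g * w) : False := by
  have hC : Commute z w := hc
  set u := z * w with hu
  set u' := z * (w * w) with hu'
  have hu3 : u ^ 3 = 1 := by rw [hu, hC.mul_pow, hz, hw, one_mul]
  have hu3' : u' ^ 3 = 1 := by
    rw [hu', (hC.mul_right hC).mul_pow, hz, (Commute.refl w).mul_pow, hw, one_mul, one_mul]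
  have hug : u * g = g * u := by rw [hu, mul_assoc, hwg, ← mul_assoc, hzg, mul_assoc]
  have hug' : u' * g = g * u' := by
    have h2 : w * w * g = g * (w * w) := by rw [mul_assoc, hwg, ← mul_assoc, hwg, mul_assoc]
    rw [hu', mul_assoc, h2, ← mul_assoc, hzg, mul_assoc]
  have hzu : z * u = u * z := ((Commute.refl z).mul_right hC).eq
  have hzu' : z * u' = u' * z := ((Commute.refl z).mul_right (hC.mul_right hC)).eq
  have hwu : w * u = u * w := (hC.symm.mul_right (Commute.refl w)).eq
  have hwu' : w * u' = u' * w :=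
    (hC.symm.mul_right ((Commute.refl w).mul_right (Commute.refl w))).eq
  -- all fixed point groups coincide once one is non-trivial
  let T : MulAut V → V → V := fun t v => v * t v * t (t v)
  have hmul : ∀ a b : V, a * b = b * a := comm_of_exp_two hV
  have hT : ∀ t : MulAut V, t ^ 3 = 1 → ∀ v, T t v ∈ fixSub t := by
    intro t ht v
    show t (v * t v * t (t v)) = v * t v * t (t v)
    rw [map_mul, map_mul, show t (t (t v)) = v by
      rw [← MulAut.mul_apply, ← MulAut.mul_apply, ← pow_two, ← pow_succ, ht, MulAut.one_apply]]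
    rw [hmul (t v * t (t v)) v, mul_assoc]
  have hid : ∀ v, T z v * T w v * T u v * T u' v * T z (T w v) = v := by
    intro v
    have eu : ∀ x, u x = z (w x) := fun x => rfl
    have eu' : ∀ x, u' x = z (w (w x)) := fun x => rfl
    have ec : ∀ x, w (z x) = z (w x) := fun x => (DFunLike.congr_fun hc x).symm
    have ew : ∀ x, w (w (w x)) = x := fun x => by
      rw [← MulAut.mul_apply, ← MulAut.mul_apply, ← pow_two, ← pow_succ, hw, MulAut.one_apply]
    simp only [T, eu, eu', ec, map_mul, ew]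
    letI : CommGroup V := { (inferInstance : Group V) with mul_comm := hmul }
    generalize z v = a, z (z v) = a', w v = b, w (w v) = b', z (w v) = c₁, z (w (w v)) = c₂,
      z (z (w v)) = c₃, z (z (w (w v))) = c₄
    calc _ = v * (v * v) * (v * v) * (a * a) * (a' * a') * (b * b) * (b' * b') * (c₁ * c₁) *
          (c₂ * c₂) * (c₃ * c₃) * (c₄ * c₄) := by ac_rfl
      _ = v := by simp only [hV, mul_one]
  have hVnt : ∃ v : V, v ≠ 1 := by
    haveI : Nontrivial V := Finite.one_lt_card_iff_nontrivial.1 (by omega)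
    exact exists_ne 1
  have hsome : fixSub z ≠ ⊥ ∨ fixSub w ≠ ⊥ ∨ fixSub u ≠ ⊥ ∨ fixSub u' ≠ ⊥ := by
    by_contra h
    push Not at h
    obtain ⟨h1, h2, h3, h4⟩ := h
    obtain ⟨v, hv⟩ := hVnt
    apply hv
    have := hid v
    have e0 : T z (T w v) = 1 := mem_bot.1 (h1 ▸ hT z hz (T w v))
    have e1 : T z v = 1 := mem_bot.1 (h1 ▸ hT z hz v)
    have e2 : T w v = 1 := mem_bot.1 (h2 ▸ hT w hw v)
    have e3 : T u v = 1 := mem_bot.1 (h3 ▸ hT u hu3 v)
    have e4 : T u' v = 1 := mem_bot.1 (h4 ▸ hT u' hu3' v)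
    rw [e0, e1, e2, e3, e4] at this
    simpa using this.symm
  have hboth : fixSub z ≠ ⊥ ∧ fixSub w ≠ ⊥ := by
    rcases hsome with h | h | h | h
    · exact ⟨h, ne_bot_of_le_ne_bot h (fix_le_fix hV h64 hz hz1 hg hg1 hzg h hw hc hwg)⟩
    · exact ⟨ne_bot_of_le_ne_bot h (fix_le_fix hV h64 hw hw1 hg hg1 hwg h hz hc.symm hzg), h⟩
    · exact ⟨ne_bot_of_le_ne_bot h (fix_le_fix hV h64 hu3 hzw1 hg hg1 hug h hz hzu.symm hzg),
        ne_bot_of_le_ne_bot h (fix_le_fix hV h64 hu3 hzw1 hg hg1 hug h hw hwu.symm hwg)⟩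
    · exact ⟨ne_bot_of_le_ne_bot h (fix_le_fix hV h64 hu3' hzw2 hg hg1 hug' h hz hzu'.symm hzg),
        ne_bot_of_le_ne_bot h (fix_le_fix hV h64 hu3' hzw2 hg hg1 hug' h hw hwu'.symm hwg)⟩
  obtain ⟨hbz, hbw⟩ := hboth
  have a1 := fix_le_fix hV h64 hw hw1 hg hg1 hwg hbw hz hc.symm hzg
  have a2 := fix_le_fix hV h64 hz hz1 hg hg1 hzg hbz hu3 hzu hug
  have a3 := fix_le_fix hV h64 hz hz1 hg hg1 hzg hbz hu3' hzu' hug'
  have b2 := fix_le_fix hV h64 hu3 hzw1 hg hg1 hug (ne_bot_of_le_ne_bot hbz a2) hz hzu.symm hzg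
  have b3 := fix_le_fix hV h64 hu3' hzw2 hg hg1 hug' (ne_bot_of_le_ne_bot hbz a3) hz hzu'.symm hzg
  refine hz1 (eq_one_of_fixSub_eq_top (top_le_iff.1 fun v _ => ?_))
  rw [← hid v]
  exact mul_mem (mul_mem (mul_mem (mul_mem (hT z hz v) (a1 (hT w hw v))) (b2 (hT u hu3 v)))
    (b3 (hT u' hu3' v))) (hT z hz _)

include hV h64 in
/-- An element of order nine is irreducible. -/
theorem irreducible_nine {x : MulAut V} (hx : x ^ 9 = 1) (hx3 : x ^ 3 ≠ 1) (H : Subgroup V)
    (hH : ∀ v ∈ H, x v ∈ H) : H = ⊥ ∨ H = ⊤ := by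
  classical
  haveI : Fact (Nat.Prime 3) := ⟨Nat.prime_three⟩
  -- the points moved by `x ^ 3` fall into orbits of nine elements
  have key : ∀ K : Subgroup V, (∀ v ∈ K, x v ∈ K) →
      Nat.card K ≡ Nat.card (K ⊓ fixSub (x ^ 3) : Subgroup V) [MOD 9] := by
    intro K hK
    let σ : Equiv.Perm K := Equiv.ofBijective (fun v => ⟨x v, hK v v.2⟩)
      (Finite.injective_iff_bijective.1 fun a b h => Subtype.ext (x.injective (congrArg Subtype.val h)))
    have hσ : ∀ (j : ℕ) (v : K), (((σ ^ j) v : K) : V) = (x ^ j) v := by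
      intro j
      induction j with
      | zero => intro v; rfl
      | succ j ih => intro v; rw [pow_succ, pow_succ, Equiv.Perm.mul_apply, ih, MulAut.mul_apply]; rfl
    refine (card_modEq_nine σ (Equiv.ext fun v => Subtype.ext (by rw [hσ, hx]; rfl))).trans
      (congrArg (· % 9) (Nat.card_congr ?_))
    exact
      { toFun := fun v => ⟨(v : K), (v : K).2, (hσ 3 v).symm.trans (congrArg Subtype.val v.2)⟩
        invFun := fun v => ⟨⟨v, v.2.1⟩, Subtype.ext ((hσ 3 _).trans v.2.2)⟩
        left_inv := fun v => rfl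
        right_inv := fun v => rfl }
  have h1 := key ⊤ fun v _ => mem_top _
  rw [top_inf_eq, Subgroup.card_top, h64] at h1
  have h2 := key H hH
  have hle : Nat.card (H ⊓ fixSub (x ^ 3) : Subgroup V) ≤ Nat.card (fixSub (x ^ 3)) :=
    card_le_of_le inf_le_right
  have hne : Nat.card (fixSub (x ^ 3)) ≠ 64 := fun h =>
    hx3 (eq_one_of_fixSub_eq_top (eq_top_of_card_64 h64 h))
  have hF : Nat.card (fixSub (x ^ 3)) = 1 := by
    unfold Nat.ModEq at h1
    have := card_cases hV h64 (fixSub (x ^ 3))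
    omega
  have : Nat.card H = 1 ∨ Nat.card H = 64 := by
    have h0 : 0 < Nat.card (H ⊓ fixSub (x ^ 3) : Subgroup V) := Nat.card_pos
    unfold Nat.ModEq at h2
    have := card_cases hV h64 H
    omega
  exact this.imp card_eq_one.1 (eq_top_of_card_64 h64)

end CfsgLib.OutTwo
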