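import Cfsg.Agent.S0205

/-!
# Groups preserving an anisotropic quadratic map in characteristic two

`isSolvable_of_anisotropic`: a finite group acting faithfully on an elementary abelian 2-group and
preserving a vector-valued quadratic map without non-trivial zeros is solvable: its Sylow
2-subgroups are elementary abelian, and central in their normalisers.
-/

set_option autoImplicit false
set_option linter.style.haveILetI false
set_option linter.unusedSectionVars false

namespace CfsgLib.OutTwo

open Subgroup

variable {W A : Type*} [AddCommGroup W] [AddCommGroup A] {L : Type*} [Group L]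


/-- `g` applied to `x`, for a family of additive maps. -/
def nil (a : L → W →+ W) (g : L) (x : W) : W := a g x + x

section

variable {a : L → W →+ W} (a1 : ∀ x, a 1 x = x) (amul : ∀ g h x, a (g * h) x = a g (a h x))
  (hW : ∀ x : W, x + x = 0) (hA : ∀ x : A, x + x = 0) {q : W → A} {B : W → W → A}
  (hpol : ∀ x y, q (x + y) = q x + q y + B x y)
  (Badd : ∀ x y z, B (x + y) z = B x z + B y z)
  (h0 : ∀ x, q x = 0 → x = 0) (hinv : ∀ g x, q (a g x) = q x)

include hW in
theorem add_eq_iff {x y : W} : x + y = 0 ↔ x = y := by
  constructor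
  · intro h
    calc x = x + (y + y) := by rw [hW, add_zero]
      _ = (x + y) + y := by abel
      _ = y := by rw [h, zero_add]
  · rintro rfl
    exact hW x

include hW in
theorem apply_eq_add_nil (g : L) (x : W) : a g x = nil a g x + x := by
  rw [nil, add_assoc, hW, add_zero]

include hpol in
theorem B_symm (x y : W) : B x y = B y x := by
  have h := hpol x y
  rw [add_comm x y, hpol y x, add_comm (q y) (q x)] at h
  exact (add_left_cancel h).symm

include hpol hinv in
theorem B_inv (g : L) (x y : W) : B (a g x) (a g y) = B x y := by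
  have h := hinv g (x + y)
  rw [map_add, hpol, hpol, hinv, hinv] at h
  exact add_left_cancel h

include hA hpol Badd hinv in
/-- A vector fixed by `g` is orthogonal to the image of `g - 1`. -/
theorem B_nil_eq_zero {g : L} {x : W} (hx : a g x = x) (y : W) : B (nil a g y) x = 0 := by
  rw [nil, Badd]
  conv_lhs => arg 1; rw [← hx]
  rw [B_inv hpol hinv, hA]

include hpol h0 hinv in
/-- If `g y = x + y` with `x` orthogonal to `y`, then `x = 0`. -/
theorem eq_zero_of_shift {g : L} {x y : W} (hy : a g y = x + y) (hB : B x y = 0) : x = 0 := by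
  refine h0 x ?_
  have h := hinv g y
  rw [hy, hpol, hB, add_zero] at h
  exact left_eq_add.1 (by rw [add_comm]; exact h.symm)

include a1 amul hW hA hpol Badd h0 hinv

/-- A 2-element acts quadratically. -/
theorem nil_nil_eq_zero {g : L} {k : ℕ} (hg : g ^ 2 ^ k = 1) (z : W) : nil a g (nil a g z) = 0 := by
  classical
  by_contra hne
  let n : W → W := nil a g
  have hn0 : n 0 = 0 := by show a g 0 + 0 = 0; rw [map_zero, add_zero]
  have hit : ∀ j x, n^[2 ^ j] x = a (g ^ 2 ^ j) x + x := by
    intro j
    induction j with
    | zero => intro x; rw [pow_zero, Function.iterate_one, pow_one]; rfl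
    | succ j ih =>
      intro x
      rw [pow_succ, mul_two, Function.iterate_add_apply, ih, ih, map_add, ← amul, ← pow_add,
        show 2 ^ j + 2 ^ j = 2 ^ j * 2 by ring]
      have := hW (a (g ^ 2 ^ j) x)
      calc a (g ^ (2 ^ j * 2)) x + a (g ^ 2 ^ j) x + (a (g ^ 2 ^ j) x + x)
          = a (g ^ (2 ^ j * 2)) x + x + (a (g ^ 2 ^ j) x + a (g ^ 2 ^ j) x) := by abel
        _ = _ := by rw [this, add_zero]
  have hex : ∃ m, n^[m] z = 0 := ⟨2 ^ k, by rw [hit, hg, a1, hW]⟩
  have h2 : 2 < Nat.find hex := by
    by_contra h
    have h3 : n^[2] z = 0 := by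
      obtain ⟨d, hd⟩ := Nat.le.dest (not_lt.1 h)
      rw [← hd, add_comm, Function.iterate_add_apply, Nat.find_spec hex, Function.iterate_fixed hn0]
    exact hne h3
  obtain ⟨j, hj⟩ : ∃ j, Nat.find hex = j + 3 := ⟨Nat.find hex - 3, by omega⟩
  set z' := n^[j] z with hz'
  have e2 : n (n z') ≠ 0 := by
    have := Nat.find_min hex (show j + 2 < Nat.find hex by omega)
    rwa [add_comm, Function.iterate_add_apply] at this
  have e3 : n (n (n z')) = 0 := by
    have := Nat.find_spec hex
    rw [hj, add_comm, Function.iterate_add_apply] at this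
    exact this
  apply e2
  have hx : a g (n (n z')) = n (n z') := (add_eq_iff hW).1 e3
  refine eq_zero_of_shift hpol h0 hinv (g := g) (y := n z') (apply_eq_add_nil hW g _) ?_
  rw [B_symm hpol]
  exact B_nil_eq_zero hA hpol Badd hinv hx z'

variable (hfaith : ∀ g, (∀ x, a g x = x) → g = 1)

include hfaith in
theorem sq_eq_one {g : L} {k : ℕ} (hg : g ^ 2 ^ k = 1) : g * g = 1 := by
  refine hfaith _ fun x => ?_
  rw [amul]
  have h := nil_nil_eq_zero a1 amul hW hA hpol Badd h0 hinv hg x
  have : a g (a g x) + x + (a g x + a g x) = 0 := by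
    rw [← h]
    simp only [nil, map_add]
    abel
  rw [hW (a g x), add_zero] at this
  exact (add_eq_iff hW).1 this

omit a1 amul hW hA hpol Badd h0 hinv in
theorem nil_add (g : L) (x y : W) : nil a g (x + y) = nil a g x + nil a g y := by
  simp only [nil, map_add]; abel

/-- Commuting involutions: the images are fixed. -/
theorem nil_nil_comm {g h : L} (hh : h * h = 1) (hc : g * h = h * g) (v : W) :
    nil a g (nil a h v) = 0 := by
  set y := nil a h v with hy
  set x := nil a g y with hx
  have hswap : ∀ w, nil a g (nil a h w) = nil a h (nil a g w) := fun w => by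
    simp only [nil, map_add, ← amul, hc]; abel
  have hyh : nil a h y = 0 :=
    nil_nil_eq_zero a1 amul hW hA hpol Badd h0 hinv (k := 1) (by rw [pow_one, pow_two, hh]) v
  have hxh : a h x = x := by
    refine (add_eq_iff hW).1 ?_
    show nil a h (nil a g y) = 0
    rw [← hswap, hyh]
    simp [nil]
  refine eq_zero_of_shift hpol h0 hinv (g := g) (y := y) (apply_eq_add_nil hW g _) ?_
  rw [B_symm hpol]
  exact B_nil_eq_zero hA hpol Badd hinv hxh v

variable [Finite L]

include hfaith in
/-- **The group is solvable.** -/
theorem isSolvable_of_anisotropic : Group.IsSolvable L := by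
  classical
  haveI : Fact (Nat.Prime 2) := ⟨Nat.prime_two⟩
  let U : Sylow 2 L := default
  have hsq : ∀ u ∈ (U : Subgroup L), u * u = 1 := by
    intro u hu
    obtain ⟨k, hk⟩ := U.isPGroup' ⟨u, hu⟩
    exact sq_eq_one a1 amul hW hA hpol Badd h0 hinv hfaith (k := k) (congrArg Subtype.val hk)
  have hcom : ∀ u ∈ (U : Subgroup L), ∀ v ∈ (U : Subgroup L), u * v = v * u := by
    intro u hu v hv
    have e1 : u⁻¹ = u := inv_eq_of_mul_eq_one_right (hsq u hu)
    have e2 : v⁻¹ = v := inv_eq_of_mul_eq_one_right (hsq v hv)
    have e3 : (u * v)⁻¹ = u * v := inv_eq_of_mul_eq_one_right (hsq _ (mul_mem hu hv))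
    rw [mul_inv_rev, e1, e2] at e3
    exact e3.symm
  have hfix : ∀ u ∈ (U : Subgroup L), ∀ w ∈ (U : Subgroup L), ∀ v, a u (nil a w v) = nil a w v :=
    fun u hu w hw v => (add_eq_iff hW).1 (nil_nil_comm a1 amul hW hA hpol Badd h0 hinv
      (hsq w hw) (hcom u hu w hw) v)
  have hN : Subgroup.normalizer ((U : Subgroup L) : Set L) ≤ centralizer ((U : Subgroup L) : Set L) := by
    intro h hh
    rw [mem_centralizer_iff]
    intro u hu
    have hu' : h * u * h⁻¹ ∈ (U : Subgroup L) := (mem_normalizer_iff.1 hh u).1 hu
    -- the normaliser fixes the images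
    have hfixh : ∀ w ∈ (U : Subgroup L), ∀ v, a h (nil a w v) = nil a w v := by
      intro w hw v
      have hw' : h * w * h⁻¹ ∈ (U : Subgroup L) := (mem_normalizer_iff.1 hh w).1 hw
      have e : a h (nil a w v) = nil a (h * w * h⁻¹) (a h v) := by
        simp only [nil, map_add, ← amul]
        congr 2
        group
      have hB : B (nil a (h * w * h⁻¹) (a h v)) (nil a w v) = 0 :=
        B_nil_eq_zero hA hpol Badd hinv (hfix _ hw' w hw v) _
      refine (add_eq_iff hW).1 (h0 _ ?_)
      rw [hpol, hinv, hA, zero_add, e, hB]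
    set u' := h * u * h⁻¹ with hu'd
    have hnil' : ∀ v, nil a u' v = nil a u (a h⁻¹ v) := by
      intro v
      rw [← hfixh u hu (a h⁻¹ v)]
      simp only [nil, map_add, ← amul, hu'd, mul_inv_cancel, a1]
      congr 2
      group
    have hone : u * u' = 1 := by
      refine hfaith _ fun v => ?_
      set z := v + a h⁻¹ v with hz
      have e : a (u * u') v = nil a u z + v := by
        rw [amul, apply_eq_add_nil hW u' v, map_add, hfix u hu u' hu', hnil',
          apply_eq_add_nil hW u v, hz, nil_add]
        abel
      have hx : nil a u z = 0 := by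
        refine eq_zero_of_shift hpol h0 hinv (g := u * u') (y := v) e ?_
        -- `B (n z) v = B z (n v)`, and `z` is orthogonal to fixed vectors of `h`
        have hs : B (nil a u z) v = B (nil a u v) z := by
          simp only [nil, Badd]
          have h1 : B (a u z) v = B (a u v) z := by
            rw [B_symm hpol (a u v) z, ← B_inv hpol hinv u (a u z) v, ← amul, hsq u hu, a1]
          rw [h1, B_symm hpol z v]
        rw [hs, B_symm hpol, hz, Badd, B_symm hpol (a h⁻¹ v)]
        have h2 : B (nil a u v) (a h⁻¹ v) = B (nil a u v) v := by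
          conv_lhs => rw [← B_inv hpol hinv h, hfixh u hu, ← amul, mul_inv_cancel, a1]
        rw [h2, B_symm hpol v, hA]
      rw [e, hx, zero_add]
    have : u' = u := by
      have e1 : u⁻¹ = u := inv_eq_of_mul_eq_one_right (hsq u hu)
      rw [← e1]
      exact eq_inv_of_mul_eq_one_right hone
    show u * h = h * u
    calc u * h = u' * h := by rw [this]
      _ = h * u := by rw [hu'd]; group
  have hcompl := MonoidHom.ker_transferSylow_isComplement' U hN
  have hodd : Odd (Nat.card (MonoidHom.transferSylow U hN).ker) := by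
    have h1 := hcompl.card_mul_card
    have h2 := (U : Subgroup L).index_mul_card
    have h3 : Nat.card (MonoidHom.transferSylow U hN).ker = (U : Subgroup L).index :=
      mul_right_cancel₀ Nat.card_pos.ne' (h1.trans h2.symm)
    rw [h3, Nat.odd_iff]
    have := U.not_dvd_index
    omega
  haveI : Group.IsSolvable (MonoidHom.transferSylow U hN).ker := Cfsg.Agent.S0205.result hodd
  haveI : Group.IsSolvable (U : Subgroup L) :=
    Group.isSolvable_of_comm fun x y => Subtype.ext (hcom x x.2 y y.2)
  exact Group.isSolvable_of_ker_le_range (MonoidHom.transferSylow U hN).ker.subtype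
    (MonoidHom.transferSylow U hN) (by rw [range_subtype])

end

end CfsgLib.OutTwo
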