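import Mathlib

/-!
# Fixed points of automorphisms of prime power order, and centralizers of irreducible automorphisms
-/

set_option autoImplicit false
set_option linter.style.haveILetI false

namespace CfsgLib.OutTwo

open Subgroup

variable {K : Type*} [Group K]

/-- The fixed points of an automorphism. -/
def fixSub (φ : MulAut K) : Subgroup K where
  carrier := {x | φ x = x}
  one_mem' := map_one φ
  mul_mem' := fun {a b} (ha : φ a = a) (hb : φ b = b) => show φ (a * b) = a * b by rw [map_mul, ha, hb]
  inv_mem' := fun {a} (ha : φ a = a) => show φ a⁻¹ = a⁻¹ by rw [map_inv, ha]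

theorem mem_fixSub {φ : MulAut K} {x : K} : x ∈ fixSub φ ↔ φ x = x := Iff.rfl

/-- A commuting automorphism preserves the fixed points. -/
theorem fixSub_invariant {φ ψ : MulAut K} (h : φ * ψ = ψ * φ) :
    ∀ x ∈ fixSub φ, ψ x ∈ fixSub φ := by
  intro x hx
  show φ (ψ x) = ψ x
  rw [← MulAut.mul_apply, h, MulAut.mul_apply, mem_fixSub.1 hx]

theorem eq_one_of_fixSub_eq_top {φ : MulAut K} (h : fixSub φ = ⊤) : φ = 1 :=
  MulEquiv.ext fun x => mem_fixSub.1 (h ▸ mem_top x : x ∈ fixSub φ)

/-- Fixed points are congruent to everything. -/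
theorem card_inf_fixSub_modEq [Finite K] {p n : ℕ} [Fact p.Prime] (φ : MulAut K)
    (hφ : φ ^ p ^ n = 1) (H : Subgroup K) (hH : ∀ x ∈ H, φ x ∈ H) :
    Nat.card H ≡ Nat.card (H ⊓ fixSub φ : Subgroup K) [MOD p] := by
  classical
  haveI : Fintype H := Fintype.ofFinite H
  let f : Function.End H := fun x => ⟨φ x, hH x x.2⟩
  have hit : ∀ (j : ℕ) (x : H), ((f ^ j : Function.End H) x : K) = (φ ^ j) x := by
    intro j
    induction j with
    | zero => intro x; rfl
    | succ j ih =>
      intro x
      rw [pow_succ, pow_succ, MulAut.mul_apply]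
      show ((f ^ j : Function.End H) (f x) : K) = _
      rw [ih]
  have hf : f ^ p ^ n = 1 := funext fun x => Subtype.ext (by rw [hit, hφ]; rfl)
  have h := Equiv.Perm.card_fixedPoints_modEq hf
  rw [← Nat.card_eq_fintype_card, ← Nat.card_eq_fintype_card] at h
  refine h.trans (congrArg (· % p) (Nat.card_congr ?_))
  exact
    { toFun := fun x => ⟨(x : H), (x : H).2, congrArg Subtype.val x.2⟩
      invFun := fun x => ⟨⟨x, x.2.1⟩, Subtype.ext x.2.2⟩
      left_inv := fun x => rfl
      right_inv := fun x => rfl }

/-- A finite group of exponent two is commutative. -/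
theorem comm_of_exp_two (hV : ∀ v : K, v * v = 1) (a b : K) : a * b = b * a := by
  have h1 : ∀ v : K, v⁻¹ = v := fun v => inv_eq_of_mul_eq_one_right (hV v)
  calc a * b = (a * b)⁻¹ := (h1 _).symm
    _ = b⁻¹ * a⁻¹ := mul_inv_rev a b
    _ = b * a := by rw [h1, h1]

theorem exists_card_eq_two_pow [Finite K] (hV : ∀ v : K, v * v = 1) (H : Subgroup K) :
    ∃ k : ℕ, Nat.card H = 2 ^ k := by
  haveI : Fact (Nat.Prime 2) := ⟨Nat.prime_two⟩
  exact IsPGroup.iff_card.1 fun x => ⟨1, Subtype.ext (by simp [pow_two, hV])⟩

/-- **The centralizer of an irreducible automorphism of an abelian group is cyclic.** -/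
theorem isCyclic_centralizer_of_irreducible [Finite K] [Nontrivial K] (hcomm : ∀ a b : K, a * b = b * a)
    (z : MulAut K) (hirr : ∀ H : Subgroup K, (∀ x ∈ H, z x ∈ H) → H = ⊥ ∨ H = ⊤) :
    IsCyclic (centralizer ({z} : Set (MulAut K))) := by
  classical
  letI : CommGroup K := { (inferInstance : Group K) with mul_comm := hcomm }
  haveI : Finite (AddMonoid.End (Additive K)) :=
    Finite.of_injective (fun f : AddMonoid.End (Additive K) => (f : Additive K → Additive K))
      DFunLike.coe_injective
  let toE : MulAut K →* AddMonoid.End (Additive K) :=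
    { toFun := fun φ => MonoidHom.toAdditive φ.toMonoidHom
      map_one' := rfl
      map_mul' := fun a b => rfl }
  let R : Subring (AddMonoid.End (Additive K)) := Subring.centralizer {toE z}
  haveI : Nontrivial R := by
    obtain ⟨v, hv⟩ := exists_ne (1 : K)
    refine ⟨⟨1, 0, fun h => hv ?_⟩⟩
    exact Additive.ofMul.injective (DFunLike.congr_fun (congrArg Subtype.val h) (Additive.ofMul v))
  haveI : NoZeroDivisors R := ⟨fun {a b} hab => by
    by_contra hne
    push Not at hne
    obtain ⟨ha, hb⟩ := hne
    let ker : Subgroup K :=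
      { carrier := {x | (a : AddMonoid.End (Additive K)) (Additive.ofMul x) = 0}
        one_mem' := map_zero (a : AddMonoid.End (Additive K))
        mul_mem' := fun {x y} (hx : (a : AddMonoid.End (Additive K)) (Additive.ofMul x) = 0)
            (hy : (a : AddMonoid.End (Additive K)) (Additive.ofMul y) = 0) =>
          show (a : AddMonoid.End (Additive K)) (Additive.ofMul (x * y)) = 0 by
            rw [ofMul_mul, map_add, hx, hy, add_zero]
        inv_mem' := fun {x} (hx : (a : AddMonoid.End (Additive K)) (Additive.ofMul x) = 0) =>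
          show (a : AddMonoid.End (Additive K)) (Additive.ofMul x⁻¹) = 0 by
            rw [ofMul_inv, map_neg, hx, neg_zero] }
    have hinv : ∀ x ∈ ker, z x ∈ ker := by
      intro x hx
      have hc := DFunLike.congr_fun (Subring.mem_centralizer_iff.1 a.2 (toE z) rfl) (Additive.ofMul x)
      show (a : AddMonoid.End (Additive K)) (Additive.ofMul (z x)) = 0
      refine hc.symm.trans ?_
      show toE z ((a : AddMonoid.End (Additive K)) (Additive.ofMul x)) = 0
      rw [show (a : AddMonoid.End (Additive K)) (Additive.ofMul x) = 0 from hx, map_zero]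
    rcases hirr ker hinv with h | h
    · refine hb (Subtype.ext (AddMonoidHom.ext fun y => ?_))
      have : ((b : AddMonoid.End (Additive K)) y).toMul ∈ ker :=
        DFunLike.congr_fun (congrArg Subtype.val hab) y
      rw [h] at this
      exact Additive.toMul.injective this
    · refine ha (Subtype.ext (AddMonoidHom.ext fun y => ?_))
      exact (h ▸ mem_top y.toMul : y.toMul ∈ ker)⟩
  haveI : IsDomain R := NoZeroDivisors.to_isDomain R
  letI : CommRing R :=
    { (inferInstance : Ring R) with mul_comm := (Finite.isDomain_to_isField R).mul_comm }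
  haveI : IsDomain R := NoZeroDivisors.to_isDomain R
  let f : centralizer ({z} : Set (MulAut K)) →* R :=
    { toFun := fun φ => ⟨toE φ.1, Subring.mem_centralizer_iff.2 fun g hg => by
        rw [Set.mem_singleton_iff.1 hg, ← map_mul, ← map_mul, mem_centralizer_singleton_iff.1 φ.2]⟩
      map_one' := Subtype.ext (map_one toE)
      map_mul' := fun a b => Subtype.ext (map_mul toE a.1 b.1) }
  refine isCyclic_of_subgroup_isDomain f fun a b hab => Subtype.ext (MulEquiv.ext fun x => ?_)
  exact Additive.ofMul.injective (DFunLike.congr_fun (congrArg Subtype.val hab) (Additive.ofMul x))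

/-- A normaliser of a cyclic subgroup with solvable centralizer is solvable. -/
theorem isSolvable_normalizer_of_cyclic {G : Type*} [Group G] (Q : Subgroup G) [hQ : IsCyclic Q]
    (hC : Group.IsSolvable (centralizer (Q : Set G))) :
    Group.IsSolvable (normalizer (Q : Set G)) := by
  haveI := hC
  let e := IsCyclic.mulAutMulEquiv Q
  haveI : Group.IsSolvable (MulAut Q) := Group.isSolvable_of_comm fun a b =>
    e.injective (by rw [map_mul, map_mul, mul_comm])
  haveI : Group.IsSolvable Q.normalizerMonoidHom.ker := by
    rw [normalizerMonoidHom_ker]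
    exact Group.isSolvable_of_isSolvable_injective
      (f := (((normalizer (Q : Set G)).subtype).comp
        ((centralizer (Q : Set G)).subgroupOf (normalizer (Q : Set G))).subtype).codRestrict
          (centralizer (Q : Set G)) fun x => x.2)
      fun a b hab => Subtype.ext (Subtype.ext (congrArg Subtype.val hab :))
  exact Group.isSolvable_of_ker_le_range Q.normalizerMonoidHom.ker.subtype Q.normalizerMonoidHom
    (by rw [range_subtype])

end CfsgLib.OutTwo
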