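import Cfsg.Agent.OutTwo.Six
import Cfsg.Agent.Zsigmondy.Basic
import Cfsg.Agent.Inv54.CentralizerFour
import Cfsg.Agent.FrobComp.SylowStructure

/-!
# Transitive normal subgroups of linear groups over the field of two elements

`isSolvable_quot_of_transitive`: if a normal subgroup `Y` of `X ≤ GL n 2` is transitive on
non-zero vectors then `X ⧸ Y` is solvable, by a Frattini argument at a primitive prime divisor
(for `n = 6` at the primes three and seven).
-/

set_option autoImplicit false
set_option linter.style.haveILetI false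

namespace CfsgLib.OutTwo

open Subgroup

variable {V : Type*} [Group V] [Finite V] (hV : ∀ v : V, v * v = 1)

theorem finite_mulAut (G : Type*) [Group G] [Finite G] : Finite (MulAut G) :=
  Finite.of_injective (fun φ : MulAut G => (φ : G → G)) DFunLike.coe_injective

/-- A solvable normaliser of a Sylow subgroup of a normal subgroup kills the quotient. -/
theorem isSolvable_quot_of_sylow {Γ : Type*} [Group Γ] [Finite Γ] (X : Subgroup Γ) (Y : Subgroup X)
    [Y.Normal] {p : ℕ} [Fact p.Prime] (P : Sylow p Y)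
    (h : Group.IsSolvable
      (normalizer ((((P : Subgroup Y).map Y.subtype).map X.subtype : Subgroup Γ) : Set Γ))) :
    Group.IsSolvable (X ⧸ Y) := by
  set P' := (P : Subgroup Y).map Y.subtype with hP'
  have hle : ∀ x ∈ normalizer (P' : Set X),
      (x : Γ) ∈ normalizer ((P'.map X.subtype : Subgroup Γ) : Set Γ) := fun x hx =>
    le_normalizer_map X.subtype ⟨x, hx, rfl⟩
  let ι : normalizer (P' : Set X) →* normalizer ((P'.map X.subtype : Subgroup Γ) : Set Γ) :=
    (X.subtype.comp (normalizer (P' : Set X)).subtype).codRestrict _ fun x => hle x x.2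
  haveI := h
  haveI : Group.IsSolvable (normalizer (P' : Set X)) :=
    Group.isSolvable_of_isSolvable_injective (f := ι) fun a b hab =>
      Subtype.ext (Subtype.ext (congrArg Subtype.val hab :))
  refine Group.isSolvable_of_surjective
    (f := (QuotientGroup.mk' Y).comp (normalizer (P' : Set X)).subtype) fun q => ?_
  obtain ⟨x, rfl⟩ := QuotientGroup.mk'_surjective Y q
  have hx : x ∈ normalizer (P' : Set X) ⊔ Y := by
    rw [hP', Sylow.normalizer_sup_eq_top P]; exact mem_top x
  rw [← SetLike.mem_coe, mul_normal] at hx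
  obtain ⟨a, ha, b, hb, rfl⟩ := hx
  refine ⟨⟨a, ha⟩, ?_⟩
  show QuotientGroup.mk' Y a = QuotientGroup.mk' Y (a * b)
  rw [map_mul, QuotientGroup.mk'_apply, QuotientGroup.mk'_apply, (QuotientGroup.eq_one_iff b).2 hb,
    mul_one]

/-- A prime dividing the quotient divides such a normaliser. -/
theorem exists_orderOf_mem_normalizer {Γ : Type*} [Group Γ] [Finite Γ] (X : Subgroup Γ) (Y : Subgroup X)
    [Y.Normal] {p : ℕ} [Fact p.Prime] (P : Sylow p Y) {r : ℕ} [Fact r.Prime]
    (hr : r ∣ Nat.card (X ⧸ Y)) :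
    ∃ e ∈ normalizer ((((P : Subgroup Y).map Y.subtype).map X.subtype : Subgroup Γ) : Set Γ),
      orderOf e = r := by
  set P' := (P : Subgroup Y).map Y.subtype with hP'
  have hsur : Function.Surjective ((QuotientGroup.mk' Y).comp (normalizer (P' : Set X)).subtype) := by
    intro q
    obtain ⟨x, rfl⟩ := QuotientGroup.mk'_surjective Y q
    have hx : x ∈ normalizer (P' : Set X) ⊔ Y := by
      rw [hP', Sylow.normalizer_sup_eq_top P]; exact mem_top x
    rw [← SetLike.mem_coe, mul_normal] at hx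
    obtain ⟨a, ha, b, hb, rfl⟩ := hx
    refine ⟨⟨a, ha⟩, ?_⟩
    show QuotientGroup.mk' Y a = QuotientGroup.mk' Y (a * b)
    rw [map_mul, QuotientGroup.mk'_apply, QuotientGroup.mk'_apply, (QuotientGroup.eq_one_iff b).2 hb,
      mul_one]
  obtain ⟨e, he⟩ := exists_prime_orderOf_dvd_card' r (hr.trans (card_dvd_of_surjective _ hsur))
  refine ⟨X.subtype e, le_normalizer_map X.subtype ⟨e, e.2, rfl⟩, ?_⟩
  rw [orderOf_injective X.subtype X.subtype_injective, orderOf_coe, he]

/-- Transitivity forces divisibility. -/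
theorem card_sub_one_dvd_card (h : 1 < Nat.card V) (X : Subgroup (MulAut V)) (Y : Subgroup X)
    (htrans : ∀ v w : V, v ≠ 1 → w ≠ 1 → ∃ y ∈ Y, (y : MulAut V) v = w) :
    Nat.card V - 1 ∣ Nat.card Y := by
  classical
  haveI : Nontrivial V := Finite.one_lt_card_iff_nontrivial.1 h
  obtain ⟨v₀, hv₀⟩ := exists_ne (1 : V)
  let Yi : Subgroup (MulAut V) := Y.map X.subtype
  have horb : MulAction.orbit Yi v₀ = {w : V | w ≠ 1} := by
    ext w
    constructor
    · rintro ⟨y, rfl⟩ hw
      exact hv₀ ((MulEquiv.map_eq_one_iff (y : MulAut V)).1 hw)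
    · intro hw
      obtain ⟨y, hy, hyv⟩ := htrans v₀ w hv₀ hw
      exact ⟨⟨y, ⟨y, hy, rfl⟩⟩, hyv⟩
  have h1 : (MulAction.orbit Yi v₀).ncard = Nat.card V - 1 := by
    rw [horb, show {w : V | w ≠ 1} = ({1} : Set V)ᶜ from rfl, Set.ncard_compl, Set.ncard_singleton]
  rw [← h1, ← MulAction.index_stabilizer,
    ← card_map_of_injective (K := Y) X.subtype_injective]
  exact index_dvd_card _

include hV in
/-- The case of a primitive prime divisor. -/
theorem isSolvable_quot_of_primitive {n r : ℕ} [Fact r.Prime] (hn : Nat.card V = 2 ^ n) (hn0 : 0 < n)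
    (hr : r ∣ 2 ^ n - 1) (hprim : ∀ k : ℕ, 0 < k → k < n → ¬ r ∣ 2 ^ k - 1)
    (X : Subgroup (MulAut V)) (Y : Subgroup X) [Y.Normal] (hrY : r ∣ Nat.card Y) :
    Group.IsSolvable (X ⧸ Y) := by
  haveI := finite_mulAut V
  haveI : Nontrivial V := Finite.one_lt_card_iff_nontrivial.1 (by
    rw [hn]; exact Nat.one_lt_two_pow hn0.ne')
  have hr2 : r ≠ 2 := by
    rintro rfl
    obtain ⟨m, hm⟩ := hr
    have h1 : 2 ^ n = 2 * 2 ^ (n - 1) := by rw [← pow_succ', Nat.sub_add_cancel hn0]
    have := Nat.one_le_two_pow (n := n - 1)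
    omega
  have hstep : ∀ {j k : ℕ}, j ≤ k → k ≤ n → 2 ^ k ≡ 2 ^ j [MOD r] → k - j = 0 ∨ k - j = n := by
    intro j k hjk hkn hmod
    by_contra hcon
    push Not at hcon
    refine hprim (k - j) (Nat.pos_of_ne_zero hcon.1) (by omega) ?_
    have h1 : r ∣ 2 ^ k - 2 ^ j := (Nat.modEq_iff_dvd' (Nat.pow_le_pow_right two_pos hjk)).1 hmod.symm
    rw [show 2 ^ k - 2 ^ j = 2 ^ j * (2 ^ (k - j) - 1) by
      rw [Nat.mul_sub, ← pow_add, Nat.add_sub_cancel' hjk, mul_one]] at h1
    exact (((Nat.coprime_primes Fact.out Nat.prime_two).2 hr2).pow_right j).dvd_of_dvd_mul_left h1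
  let Q : Sylow r Y := default
  set Q' := ((Q : Subgroup Y).map Y.subtype).map X.subtype with hQ'
  have hQp : IsPGroup r Q' := (Q.isPGroup'.map _).map _
  have hQ1 : Nontrivial Q' := by
    rw [nontrivial_iff_ne_bot, hQ', Ne, map_eq_bot_iff_of_injective _ X.subtype_injective,
      map_eq_bot_iff_of_injective _ Y.subtype_injective]
    exact Q.ne_bot_of_dvd_card hrY
  -- a central element of order `r`
  haveI := hQp.center_nontrivial
  have hrZ : r ∣ Nat.card (center Q') := by
    obtain ⟨m, hm⟩ := IsPGroup.iff_card.1 (hQp.to_subgroup (center Q'))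
    rw [hm]
    exact dvd_pow_self r (by rintro rfl; rw [pow_zero] at hm; exact Finite.one_lt_card.ne' hm)
  obtain ⟨z, hz⟩ := exists_prime_orderOf_dvd_card' r hrZ
  have hzo : orderOf ((z : Q') : MulAut V) = r := by rw [orderOf_coe, orderOf_coe, hz]
  set z₀ : MulAut V := ((z : Q') : MulAut V)
  have hzr : z₀ ^ r ^ 1 = 1 := by rw [pow_one]; exact hzo ▸ pow_orderOf_eq_one z₀
  have hirr : ∀ H : Subgroup V, (∀ x ∈ H, z₀ x ∈ H) → H = ⊥ ∨ H = ⊤ := by
    have hF : fixSub z₀ = ⊥ := by
      have h := card_inf_fixSub_modEq z₀ hzr ⊤ fun x _ => mem_top _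
      obtain ⟨j, hj⟩ := exists_card_eq_two_pow hV (fixSub z₀)
      have hjn : j ≤ n := (Nat.pow_le_pow_iff_right (a := 2) one_lt_two).1
        (hj ▸ hn ▸ card_le_card_group (fixSub z₀))
      rw [top_inf_eq, Subgroup.card_top, hn, hj] at h
      rcases hstep hjn le_rfl h with h' | h'
      · have : fixSub z₀ = ⊤ := eq_top_of_card_eq _ (by rw [hj, hn, show j = n by omega])
        exact absurd hzo (by rw [eq_one_of_fixSub_eq_top this, orderOf_one]; exact (Fact.out : r.Prime).ne_one.symm)
      · exact card_eq_one.1 (by rw [hj, show j = 0 by omega, pow_zero])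
    intro H hH
    have h := card_inf_fixSub_modEq z₀ hzr H hH
    obtain ⟨k, hk⟩ := exists_card_eq_two_pow hV H
    have hkn : k ≤ n := (Nat.pow_le_pow_iff_right (a := 2) one_lt_two).1 (hk ▸ hn ▸ card_le_card_group H)
    rw [hF, inf_bot_eq, Subgroup.card_bot, hk, show (1 : ℕ) = 2 ^ 0 from rfl] at h
    rcases hstep (Nat.zero_le k) hkn h with h' | h'
    · exact Or.inl (card_eq_one.1 (by rw [hk, show k = 0 by omega, pow_zero]))
    · exact Or.inr (eq_top_of_card_eq _ (by rw [hk, hn, show k = n by omega]))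
  haveI hcyc := isCyclic_centralizer_of_irreducible (comm_of_exp_two hV) z₀ hirr
  have hQC : Q' ≤ centralizer {z₀} := fun q hq => mem_centralizer_singleton_iff.2
    (congrArg Subtype.val (mem_center_iff.1 z.2 ⟨q, hq⟩))
  haveI : IsCyclic Q' := isCyclic_of_injective (Subgroup.inclusion hQC) (inclusion_injective hQC)
  refine isSolvable_quot_of_sylow X Y Q (isSolvable_normalizer_of_cyclic Q' ?_)
  haveI : Group.IsSolvable (centralizer ({z₀} : Set (MulAut V))) :=
    Group.isSolvable_of_comm fun a b => IsCyclic.isMulCommutative.is_comm.comm a b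
  have hle : centralizer (Q' : Set (MulAut V)) ≤ centralizer {z₀} :=
    centralizer_le (Set.singleton_subset_iff.2 (z : Q').2)
  exact Group.isSolvable_of_isSolvable_injective (inclusion_injective hle)

include hV in
/-- The case of order 64. -/
theorem isSolvable_quot_of_six (h64 : Nat.card V = 64) (X : Subgroup (MulAut V)) (Y : Subgroup X)
    [Y.Normal] (h63 : 63 ∣ Nat.card Y) : Group.IsSolvable (X ⧸ Y) := by
  haveI := finite_mulAut V
  haveI : Nontrivial V := Finite.one_lt_card_iff_nontrivial.1 (by omega)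
  haveI : Fact (Nat.Prime 7) := ⟨by norm_num⟩
  haveI : Fact (Nat.Prime 3) := ⟨Nat.prime_three⟩
  have hGL : Nat.card (MulAut V) ∣ 2 ^ 15 * 3 ^ 4 * 5 * 7 ^ 2 * 31 := by
    have := card_mulAut_dvd hV (n := 6) (by rw [h64]; norm_num)
    rwa [show ∏ i : Fin 6, (2 ^ 6 - 2 ^ (i : ℕ)) = 2 ^ 15 * 3 ^ 4 * 5 * 7 ^ 2 * 31 by decide] at this
  have hpart : ∀ {p m a : ℕ}, p.Prime → p ^ a ∣ Nat.card (MulAut V) → Nat.Coprime p m →
      ∀ b, 2 ^ 15 * 3 ^ 4 * 5 * 7 ^ 2 * 31 = p ^ b * m → a ≤ b := by
    intro p m a hp hd hco b he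
    have h1 : p ^ a ∣ p ^ b * m := he ▸ hd.trans hGL
    exact (Nat.pow_dvd_pow_iff_le_right hp.one_lt).1 ((hco.pow_left a).dvd_of_dvd_mul_right h1)
  by_contra hns
  -- a Sylow 7-subgroup of `Y`: the primes 5 and 31 do not divide the quotient
  let Q : Sylow 7 Y := default
  set Q' := ((Q : Subgroup Y).map Y.subtype).map X.subtype with hQ'
  have hQp : IsPGroup 7 Q' := (Q.isPGroup'.map _).map _
  obtain ⟨a, ha⟩ := IsPGroup.iff_card.1 hQp
  have hQc : Nat.card Q' = Nat.card (Q : Subgroup Y) := by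
    rw [hQ', card_map_of_injective X.subtype_injective, card_map_of_injective Y.subtype_injective]
  have ha1 : 1 ≤ a := by
    rcases Nat.eq_zero_or_pos a with rfl | h
    · have h7 := Q.dvd_card_of_dvd_card (dvd_trans (by norm_num) h63)
      rw [← hQc, ha] at h7
      norm_num at h7
    · exact h
  have ha2 : a ≤ 2 := hpart (m := 2 ^ 15 * 3 ^ 4 * 5 * 31) (by norm_num) (ha ▸ card_subgroup_dvd_card Q')
    (by norm_num) 2 (by norm_num)
  have hno : ∀ p : ℕ, p = 5 ∨ p = 31 → ¬ p ∣ Nat.card (X ⧸ Y) := by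
    intro p hp hd
    haveI : Fact p.Prime := ⟨by rcases hp with rfl | rfl <;> norm_num⟩
    obtain ⟨e, he, heo⟩ := exists_orderOf_mem_normalizer X Y Q hd
    have hep : e ^ p = 1 := heo ▸ pow_orderOf_eq_one e
    have h := card_inf_fixSub_modEq (p := p) (n := 1) (MulAut.conj e)
      (by rw [pow_one, ← map_pow, hep, map_one]) Q' fun x hx => (mem_normalizer_iff.1 he x).1 hx
    obtain ⟨b, hb⟩ := IsPGroup.iff_card.1 (hQp.to_le (inf_le_left : Q' ⊓ fixSub (MulAut.conj e) ≤ Q'))
    have hb0 : b ≠ 0 := by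
      rintro rfl
      rw [ha, hb] at h
      unfold Nat.ModEq at h
      interval_cases a <;> rcases hp with rfl | rfl <;> simp at h
    obtain ⟨g, hg⟩ := exists_prime_orderOf_dvd_card' 7 (hb ▸ dvd_pow_self 7 hb0)
    have hgo : orderOf (g : MulAut V) = 7 := by rw [orderOf_coe, hg]
    have hcomm : e * (g : MulAut V) = g * e := by
      have : e * (g : MulAut V) * e⁻¹ = g := g.2.2
      rwa [mul_inv_eq_iff_eq_mul] at this
    refine not_commute_seven hV h64 hp hep ?_ (hgo ▸ pow_orderOf_eq_one (g : MulAut V)) ?_ hcomm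
    · intro e1; rw [e1, orderOf_one] at heo; rcases hp with rfl | rfl <;> omega
    · intro g1; rw [g1, orderOf_one] at hgo; omega
  have hdvdX : Nat.card (X ⧸ Y) ∣ 2 ^ 15 * 3 ^ 4 * 7 ^ 2 := by
    have h1 : Nat.card (X ⧸ Y) ∣ 2 ^ 15 * 3 ^ 4 * 5 * 7 ^ 2 * 31 :=
      ((card_quotient_dvd_card Y).trans (card_subgroup_dvd_card X)).trans hGL
    have h2 := (Nat.Coprime.dvd_of_dvd_mul_right
      ((Nat.Prime.coprime_iff_not_dvd (by norm_num)).2 (hno 31 (Or.inr rfl))).symm h1)
    exact Nat.Coprime.dvd_of_dvd_mul_right (m := 2 ^ 15 * 3 ^ 4 * 7 ^ 2) (n := 5)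
      ((Nat.Prime.coprime_iff_not_dvd (by norm_num)).2 (hno 5 (Or.inl rfl))).symm
      (by simpa [mul_comm, mul_assoc, mul_left_comm] using h2)
  have h7 : 7 ∣ Nat.card (X ⧸ Y) := by
    by_contra h
    refine hns (CfsgLib.Characters.isSolvable_of_card_eq_primePow_mul 2 3 15 4 Nat.prime_two
      Nat.prime_three ?_)
    exact (Nat.Coprime.dvd_of_dvd_mul_right (n := 7 ^ 2)
      (((Nat.Prime.coprime_iff_not_dvd (by norm_num)).2 h).symm.pow_right 2) hdvdX)
  -- a Sylow 3-subgroup of `Y`, centralised by an element of order seven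
  let P : Sylow 3 Y := default
  set P' := ((P : Subgroup Y).map Y.subtype).map X.subtype with hP'
  have hPp : IsPGroup 3 P' := (P.isPGroup'.map _).map _
  obtain ⟨c, hc⟩ := IsPGroup.iff_card.1 hPp
  have hPc : Nat.card P' = Nat.card (P : Subgroup Y) := by
    rw [hP', card_map_of_injective X.subtype_injective, card_map_of_injective Y.subtype_injective]
  have hc2 : 2 ≤ c := by
    have h9 := P.pow_dvd_card_of_pow_dvd_card (n := 2) (dvd_trans (by norm_num) h63)
    rw [← hPc, hc] at h9
    exact (Nat.pow_dvd_pow_iff_le_right (by norm_num)).1 h9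
  have hc4 : c ≤ 4 := hpart (m := 2 ^ 15 * 5 * 7 ^ 2 * 31) Nat.prime_three
    (hc ▸ card_subgroup_dvd_card P') (by norm_num) 4 (by norm_num)
  by_cases hcyc : IsCyclic P'
  · obtain ⟨x, hx⟩ := hcyc.exists_generator
    have hxo : orderOf x = 3 ^ c := (orderOf_eq_card_of_forall_mem_zpowers hx).trans hc
    set y : MulAut V := (x : MulAut V) ^ 3 ^ (c - 2)
    have hyo : orderOf y = 9 := by
      rw [orderOf_pow_of_dvd (by positivity) (by
          rw [orderOf_coe, hxo]; exact Nat.pow_dvd_pow 3 (Nat.sub_le c 2)),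
        orderOf_coe, hxo, Nat.pow_div (Nat.sub_le c 2) (by norm_num), show c - (c - 2) = 2 by omega]
    have hirr := irreducible_nine hV h64 (hyo ▸ pow_orderOf_eq_one y) fun h => by
      have := orderOf_dvd_of_pow_eq_one h
      rw [hyo] at this
      norm_num at this
    haveI := isCyclic_centralizer_of_irreducible (comm_of_exp_two hV) y hirr
    haveI := hcyc
    refine hns (isSolvable_quot_of_sylow X Y P (isSolvable_normalizer_of_cyclic P' ?_))
    haveI : Group.IsSolvable (centralizer ({y} : Set (MulAut V))) :=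
      Group.isSolvable_of_comm fun a b => IsCyclic.isMulCommutative.is_comm.comm a b
    have hle : centralizer (P' : Set (MulAut V)) ≤ centralizer {y} :=
      centralizer_le (Set.singleton_subset_iff.2 (pow_mem x.2 _))
    exact Group.isSolvable_of_isSolvable_injective (inclusion_injective hle)
  · obtain ⟨g, hgN, hgo⟩ := exists_orderOf_mem_normalizer X Y P h7
    have hg7 : g ^ 7 = 1 := hgo ▸ pow_orderOf_eq_one g
    have h := card_inf_fixSub_modEq (p := 7) (n := 1) (MulAut.conj g)
      (by rw [pow_one, ← map_pow, hg7, map_one]) P' fun x hx => (mem_normalizer_iff.1 hgN x).1 hx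
    obtain ⟨b, hb⟩ := IsPGroup.iff_card.1 (hPp.to_le (inf_le_left : P' ⊓ fixSub (MulAut.conj g) ≤ P'))
    have hbc : b ≤ c := (Nat.pow_le_pow_iff_right (a := 3) (by norm_num)).1
      (hc ▸ hb ▸ card_le_of_le inf_le_left)
    have hbeq : b = c := by
      rw [hc, hb] at h
      unfold Nat.ModEq at h
      interval_cases c <;> interval_cases b <;> first | rfl | simp at h
    have hPg : ∀ x ∈ P', x * g = g * x := by
      intro x hx
      have hle : P' ⊓ fixSub (MulAut.conj g) = P' :=
        eq_of_le_of_card_ge inf_le_left (by rw [hc, hb, hbeq])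
      have : x ∈ P' ⊓ fixSub (MulAut.conj g) := by rw [hle]; exact hx
      have h2 : g * x * g⁻¹ = x := this.2
      rw [mul_inv_eq_iff_eq_mul] at h2
      exact h2.symm
    haveI : Nontrivial P' := Finite.one_lt_card_iff_nontrivial.1 (by
      rw [hc]; exact Nat.one_lt_pow (by omega) (by norm_num))
    haveI := hPp.center_nontrivial
    have h3Z : 3 ∣ Nat.card (center P') := by
      obtain ⟨m, hm⟩ := IsPGroup.iff_card.1 (hPp.to_subgroup (center P'))
      rw [hm]
      exact dvd_pow_self 3 (by rintro rfl; rw [pow_zero] at hm; exact Finite.one_lt_card.ne' hm)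
    obtain ⟨z, hz⟩ := exists_prime_orderOf_dvd_card' 3 h3Z
    have hzo : orderOf (z : P') = 3 := by rw [orderOf_coe, hz]
    have hu : ¬ CfsgLib.FrobComp.UniqueOrderP 3 P' := fun hu =>
      hcyc (CfsgLib.FrobComp.isCyclic_of_uniqueOrderP hPp hu (Or.inr (by norm_num)))
    obtain ⟨w, hw, hwn⟩ : ∃ w : P', w ^ 3 = 1 ∧ w ∉ zpowers (z : P') := by
      by_contra hall
      push Not at hall
      refine hu fun x y hx hy hx1 => ?_
      have hxz : zpowers x = zpowers (z : P') := eq_of_le_of_card_ge (zpowers_le.2 (hall x hx)) (by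
        rw [Nat.card_zpowers, Nat.card_zpowers, hzo, orderOf_eq_prime hx hx1])
      rw [hxz]
      exact hall y hy
    have hzc : (z : P') * w = w * (z : P') := (mem_center_iff.1 z.2 w).symm
    have hz3 : (z : P') ^ 3 = 1 := hzo ▸ pow_orderOf_eq_one _
    have hzne : (z : P') ≠ 1 := fun e => by rw [e, orderOf_one] at hzo; omega
    have hw2 : w⁻¹ = w * w := inv_eq_of_mul_eq_one_right (by rw [← mul_assoc, ← pow_two, ← pow_succ]; exact hw)
    refine not_nine_seven hV h64 (z := ((z : P') : MulAut V)) (w := (w : MulAut V)) (g := g)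
      (congrArg Subtype.val hz3) (congrArg Subtype.val hw) (fun e => hzne (Subtype.ext e))
      (fun e => hwn (by rw [show w = 1 from Subtype.ext e]; exact one_mem _))
      (fun e => hwn ?_) (fun e => hwn ?_) hg7 (fun e => by rw [e, orderOf_one] at hgo; omega)
      (congrArg Subtype.val hzc) (hPg _ (z : P').2) (hPg _ w.2)
    · rw [show w = (z : P')⁻¹ from eq_inv_of_mul_eq_one_right (Subtype.ext e)]
      exact inv_mem (mem_zpowers _)
    · have h1 : (z : P') * w⁻¹ = 1 := by rw [hw2]; exact Subtype.ext e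
      rw [← mul_inv_eq_one.1 h1]
      exact mem_zpowers _

include hV in
/-- **A transitive normal subgroup of a linear group over `GF(2)` has solvable quotient.** -/
theorem isSolvable_quot_of_transitive (X : Subgroup (MulAut V)) (Y : Subgroup X) [Y.Normal]
    (htrans : ∀ v w : V, v ≠ 1 → w ≠ 1 → ∃ y ∈ Y, (y : MulAut V) v = w) :
    Group.IsSolvable (X ⧸ Y) := by
  haveI := finite_mulAut V
  obtain ⟨n, hn⟩ := exists_card_eq_two_pow hV (⊤ : Subgroup V)
  rw [Subgroup.card_top] at hn
  rcases le_or_gt n 2 with h2 | h2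
  · haveI := CfsgLib.Inv54.isSolvable_perm_of_card_le_four (α := V) (by
      rw [hn]; exact (Nat.pow_le_pow_right two_pos h2).trans_eq (by norm_num))
    let f : MulAut V →* Equiv.Perm V :=
      { toFun := MulEquiv.toEquiv, map_one' := rfl, map_mul' := fun a b => rfl }
    haveI : Group.IsSolvable (MulAut V) := Group.isSolvable_of_isSolvable_injective (f := f)
      fun a b h => MulEquiv.ext fun x => Equiv.congr_fun h x
    infer_instance
  have hd := card_sub_one_dvd_card (by rw [hn]; exact Nat.one_lt_two_pow (by omega)) X Y htrans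
  rw [hn] at hd
  by_cases h6 : n = 6
  · subst h6
    exact isSolvable_quot_of_six hV hn X Y hd
  · obtain ⟨r, hr, hrd, hprim⟩ := CfsgLib.Zsigmondy.exists_primitive_prime 2 n one_lt_two (by omega)
      (fun h => h6 h.2) (fun h => by omega)
    haveI : Fact r.Prime := ⟨hr⟩
    exact isSolvable_quot_of_primitive hV hn (by omega) hrd hprim X Y (hrd.trans hd)

end CfsgLib.OutTwo
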