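import Cfsg.Agent.OutTwo.TwoGroupAut
import Cfsg.Agent.OutTwo.Transitive
import Cfsg.Agent.SylowFixing.GivenOdd
import Cfsg.Agent.FusionMetacyclic.Structure

/-!
# Solvability of the outer automorphism group from the Sylow 2-subgroup

`isSolvable_out_two_generated`, `isSolvable_out_three_generated`,
`isSolvable_out_commuting_involutions` (Glauberman).
-/

set_option autoImplicit false
set_option linter.style.haveILetI false

namespace CfsgLib.OutTwo

open Subgroup

universe u

variable {G : Type u} [Group G] [Finite G]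

/-- The automorphisms preserving `S`. -/
def stab (S : Sylow 2 G) : Subgroup (MulAut G) where
  carrier := {φ | (S : Subgroup G).map φ.toMonoidHom = S}
  one_mem' := Subgroup.map_id _
  mul_mem' := fun {a b} (ha : (S : Subgroup G).map a.toMonoidHom = S) hb => by
    show (S : Subgroup G).map (a * b).toMonoidHom = S
    rw [show (a * b).toMonoidHom = a.toMonoidHom.comp b.toMonoidHom from rfl, ← map_map, hb, ha]
  inv_mem' := fun {a} (ha : (S : Subgroup G).map a.toMonoidHom = S) => by
    show (S : Subgroup G).map (a⁻¹).toMonoidHom = S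
    conv_lhs => rw [← ha, map_map]
    convert Subgroup.map_id (S : Subgroup G)
    ext x; simp

/-- Restriction to `S`. -/
def res (S : Sylow 2 G) : stab S →* MulAut ↥(S : Subgroup G) :=
  CfsgLib.Transitivity.restrictAction (stab S).subtype (S : Subgroup G) fun a => a.2

theorem res_coe (S : Sylow 2 G) (m : stab S) (s : ↥(S : Subgroup G)) :
    ((res S m s : ↥(S : Subgroup G)) : G) = (m : MulAut G) s := rfl

/-- The inner automorphisms preserving `S`. -/
def innS (S : Sylow 2 G) : Subgroup (stab S) := (Cfsg.Inn G).subgroupOf (stab S)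

instance innS_normal (S : Sylow 2 G) : (innS S).Normal := by
  unfold innS; infer_instance

theorem conj_mem_stab {S : Sylow 2 G} {g : G} (hg : g ∈ normalizer ((S : Subgroup G) : Set G)) :
    MulAut.conj g ∈ stab S := by
  show (S : Subgroup G).map (MulAut.conj g).toMonoidHom = S
  ext x
  constructor
  · rintro ⟨s, hs, rfl⟩
    exact (mem_normalizer_iff.1 hg s).1 hs
  · intro hx
    refine ⟨g⁻¹ * x * g, (mem_normalizer_iff.1 hg _).2 ?_, by simp [mul_assoc]⟩
    rw [show g * (g⁻¹ * x * g) * g⁻¹ = x by group]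
    exact hx

variable [IsSimpleGroup G] {S : Sylow 2 G} (hS1 : (S : Subgroup G) ≠ ⊥)

include hS1 in
theorem isSolvable_ker_res : Group.IsSolvable (res S).ker := by
  haveI : Fact (Nat.Prime 2) := ⟨Nat.prime_two⟩
  haveI := finite_mulAut G
  have hO : ∀ N : Subgroup G, N.Normal → Odd (Nat.card N) → N = ⊥ := by
    intro N hN hoddN
    rcases hN.eq_bot_or_eq_top with h | h
    · exact h
    · exfalso
      subst h
      rw [Subgroup.card_top] at hoddN
      obtain ⟨n, hn⟩ := IsPGroup.iff_card.1 S.isPGroup'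
      rcases Nat.eq_zero_or_pos n with rfl | hn0
      · exact hS1 (card_eq_one.1 (by simpa using hn))
      · exact Nat.not_even_iff_odd.2 hoddN (even_iff_two_dvd.2
          ((hn ▸ dvd_pow_self 2 hn0.ne' : 2 ∣ Nat.card S).trans (card_subgroup_dvd_card _)))
  have hC : ∀ φ ∈ (res S).ker.map (stab S).subtype, ∀ s : G, s ∈ S → φ s = s := by
    rintro _ ⟨a, ha, rfl⟩ s hs
    exact congrArg Subtype.val (DFunLike.congr_fun (MonoidHom.mem_ker.1 ha) ⟨s, hs⟩)
  haveI := (CfsgLib.SylowFixing.fixing_facts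
    (fun K _ _ h => Cfsg.Agent.S0205.result h) hO S _ hC).2
  exact Group.isSolvable_of_isSolvable_injective
    (f := ((res S).ker.equivMapOfInjective (stab S).subtype (stab S).subtype_injective).toMonoidHom)
    ((res S).ker.equivMapOfInjective (stab S).subtype (stab S).subtype_injective).injective

include hS1 in
/-- **The criterion**: a homomorphism with solvable kernel on `S` and solvable cokernel of the
inner automorphisms. -/
theorem isSolvable_out_of_hom {H : Type*} [Group H] (f : stab S →* H)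
    (hker : Group.IsSolvable (f.ker.map (res S)))
    (hX : ∀ [((innS S).map f.rangeRestrict).Normal],
      Group.IsSolvable (f.range ⧸ (innS S).map f.rangeRestrict)) :
    Group.IsSolvable (Cfsg.Out G) := by
  haveI := finite_mulAut G
  let π : stab S →* MulAut G ⧸ Cfsg.Inn G :=
    (QuotientGroup.mk' (Cfsg.Inn G)).comp (stab S).subtype
  have hπ : Function.Surjective π := by
    intro x
    obtain ⟨φ, rfl⟩ := QuotientGroup.mk'_surjective _ x
    obtain ⟨g, hg⟩ := MulAction.exists_smul_eq G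
      (S.mapSurjective (f := φ.toMonoidHom) φ.surjective) S
    have hmem : (MulAut.conj g * φ) ∈ stab S := by
      show (S : Subgroup G).map (MulAut.conj g * φ).toMonoidHom = S
      rw [show (MulAut.conj g * φ).toMonoidHom =
        (MulAut.conj g).toMonoidHom.comp φ.toMonoidHom from rfl, ← map_map]
      conv_rhs => rw [← hg]
      rfl
    refine ⟨⟨_, hmem⟩, ?_⟩
    show QuotientGroup.mk' (Cfsg.Inn G) (MulAut.conj g * φ) = QuotientGroup.mk' (Cfsg.Inn G) φ
    have h1 : QuotientGroup.mk' (Cfsg.Inn G) (MulAut.conj g) = 1 :=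
      (QuotientGroup.eq_one_iff _).2 ⟨g, rfl⟩
    rw [map_mul, h1, one_mul]
  haveI : ((innS S).map f.rangeRestrict).Normal :=
    Normal.map inferInstance _ f.rangeRestrict_surjective
  haveI := hX
  -- the kernel of `f` is solvable
  haveI : Group.IsSolvable f.ker := by
    haveI := isSolvable_ker_res hS1
    haveI := hker
    let g : f.ker →* f.ker.map (res S) := (res S).subgroupMap f.ker
    let ι : (res S).ker.subgroupOf f.ker →* f.ker := ((res S).ker.subgroupOf f.ker).subtype
    haveI : Group.IsSolvable ((res S).ker.subgroupOf f.ker) :=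
      Group.isSolvable_of_isSolvable_injective
        (f := (f.ker.subtype.comp ι).codRestrict (res S).ker fun x => x.2)
        fun a b hab => Subtype.ext (Subtype.ext (congrArg Subtype.val hab :))
    refine Group.isSolvable_of_ker_le_range ι g fun x hx => ⟨⟨x, ?_⟩, rfl⟩
    exact congrArg Subtype.val (MonoidHom.mem_ker.1 hx)
  let ψ := (QuotientGroup.mk' ((innS S).map f.rangeRestrict)).comp f.rangeRestrict
  have hψ : π.ker ≤ ψ.ker := fun m hm => (QuotientGroup.eq_one_iff _).2
    ⟨m, (QuotientGroup.eq_one_iff (m : MulAut G)).1 hm, rfl⟩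
  let φ := π.liftOfSurjective hπ ⟨ψ, hψ⟩
  have hφ : ∀ m, φ (π m) = ψ m := fun m =>
    MonoidHom.liftOfRightInverse_comp_apply _ _ _ _ _
  refine Group.isSolvable_of_ker_le_range (π.comp f.ker.subtype) φ ?_
  intro x hx
  obtain ⟨m, rfl⟩ := hπ x
  rw [MonoidHom.mem_ker, hφ] at hx
  obtain ⟨k, hk, hkm⟩ := (QuotientGroup.eq_one_iff _).1 hx
  have hfk : f k = f m := congrArg Subtype.val hkm
  refine ⟨⟨k⁻¹ * m, by rw [MonoidHom.mem_ker, map_mul, map_inv, hfk, inv_mul_cancel]⟩, ?_⟩
  show π (k⁻¹ * m) = π m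
  rw [map_mul, map_inv, show π k = 1 from (QuotientGroup.eq_one_iff _).2 hk, inv_one, one_mul]

/-! ### Two and three generators -/

/-- The action on the Frattini quotient. -/
noncomputable def frattiniAct (P : Type*) [Group P] : MulAut P →* MulAut (P ⧸ frattini P) where
  toFun φ := QuotientGroup.congr (frattini P) (frattini P) φ (characteristic_iff_map_eq.1 inferInstance φ)
  map_one' := MulEquiv.ext fun x => by
    obtain ⟨s, rfl⟩ := QuotientGroup.mk_surjective x; rfl
  map_mul' a b := MulEquiv.ext fun x => by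
    obtain ⟨s, rfl⟩ := QuotientGroup.mk_surjective x; rfl

theorem isPGroup_ker_frattiniAct {P : Type*} [Group P] [Finite P] (hP : IsPGroup 2 P) :
    IsPGroup 2 (frattiniAct P).ker := by
  haveI := finite_mulAut P
  intro α
  obtain ⟨k, m, hmodd, hkm⟩ := Nat.exists_eq_two_pow_mul_odd (orderOf_pos α).ne'
  refine ⟨k, Subtype.ext ?_⟩
  rw [SubgroupClass.coe_pow, OneMemClass.coe_one]
  refine CfsgLib.FusionMetacyclic.eq_one_of_trivial_frattini hP ?_ fun x => ?_
  · rw [← SubgroupClass.coe_pow, orderOf_coe, orderOf_pow, hkm, Nat.gcd_eq_right (dvd_mul_right _ _),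
      Nat.mul_div_cancel_left _ (pow_pos two_pos k)]
    exact hmodd
  · have hmem : ((α : MulAut P)) ^ 2 ^ k ∈ (frattiniAct P).ker := pow_mem α.2 _
    rw [← QuotientGroup.eq_one_iff, QuotientGroup.mk_mul, QuotientGroup.mk_inv, mul_inv_eq_one]
    exact DFunLike.congr_fun (MonoidHom.mem_ker.1 hmem) (x : P ⧸ frattini P)

/-- The Frattini quotient of a 2-group generated by three elements. -/
theorem card_frattini_quot_le {P : Type*} [Group P] [Finite P] (hP : IsPGroup 2 P) {a b c : P}
    (h : closure ({a, b, c} : Set P) = ⊤) :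
    (∀ v : P ⧸ frattini P, v * v = 1) ∧ Nat.card (P ⧸ frattini P) ≤ 8 := by
  haveI : Fact (Nat.Prime 2) := ⟨Nat.prime_two⟩
  have hV : ∀ v : P ⧸ frattini P, v * v = 1 := fun v => by
    obtain ⟨s, rfl⟩ := QuotientGroup.mk_surjective v
    rw [← QuotientGroup.mk_mul, QuotientGroup.eq_one_iff, ← pow_two]
    exact CfsgLib.Solvable.pow_mem_frattini hP s
  refine ⟨hV, ?_⟩
  have hcm := comm_of_exp_two hV
  have hn : ∀ H : Subgroup (P ⧸ frattini P), H.Normal := fun H => ⟨fun x hx g => by
    rw [hcm g x, mul_inv_cancel_right]; exact hx⟩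
  let π := QuotientGroup.mk' (frattini P)
  have htop : zpowers (π a) ⊔ zpowers (π b) ⊔ zpowers (π c) = ⊤ := by
    rw [← map_top_of_surjective π (QuotientGroup.mk'_surjective _), ← h, MonoidHom.map_closure,
      Set.image_insert_eq, Set.image_insert_eq, Set.image_singleton, Set.insert_eq, Set.insert_eq,
      Subgroup.closure_union, Subgroup.closure_union, ← zpowers_eq_closure, ← zpowers_eq_closure, ← zpowers_eq_closure,
      sup_assoc]
  have h2 : ∀ v : P ⧸ frattini P, Nat.card (zpowers v) ≤ 2 := fun v => by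
    rw [Nat.card_zpowers]
    exact Nat.le_of_dvd two_pos (orderOf_dvd_of_pow_eq_one (by rw [pow_two, hV]))
  have hsup : ∀ H K : Subgroup (P ⧸ frattini P), Nat.card (H ⊔ K : Subgroup _) ≤ Nat.card H * Nat.card K := by
    intro H K
    haveI := hn K
    rw [← SetLike.coe_sort_coe, mul_normal H K]
    exact Set.natCard_mul_le
  calc Nat.card (P ⧸ frattini P) = Nat.card (⊤ : Subgroup (P ⧸ frattini P)) := Subgroup.card_top.symm
    _ ≤ Nat.card (zpowers (π a) ⊔ zpowers (π b) : Subgroup _) * Nat.card (zpowers (π c)) :=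
        htop ▸ hsup _ _
    _ ≤ (Nat.card (zpowers (π a)) * Nat.card (zpowers (π b))) * Nat.card (zpowers (π c)) :=
        Nat.mul_le_mul_right _ (hsup _ _)
    _ ≤ 2 * 2 * 2 := Nat.mul_le_mul (Nat.mul_le_mul (h2 _) (h2 _)) (h2 _)

/-- The Frattini quotient of a 2-group generated by two elements. -/
theorem card_le_four_of_two {P : Type*} [Group P] [Finite P] (hP : IsPGroup 2 P) {a b : P}
    (h : closure ({a, b} : Set P) = ⊤) : Nat.card (P ⧸ frattini P) ≤ 4 := by
  obtain ⟨hV, -⟩ := card_frattini_quot_le hP (a := a) (b := b) (c := b) (by rw [Set.pair_eq_singleton]; exact h)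
  have hcm := comm_of_exp_two hV
  let π := QuotientGroup.mk' (frattini P)
  have htop : zpowers (π a) ⊔ zpowers (π b) = ⊤ := by
    rw [← map_top_of_surjective π (QuotientGroup.mk'_surjective _), ← h, MonoidHom.map_closure,
      Set.image_insert_eq, Set.image_singleton, Set.insert_eq,
      Subgroup.closure_union, ← zpowers_eq_closure, ← zpowers_eq_closure]
  haveI : (zpowers (π b)).Normal := ⟨fun x hx g => by rw [hcm g x, mul_inv_cancel_right]; exact hx⟩
  have h2 : ∀ v : P ⧸ frattini P, Nat.card (zpowers v) ≤ 2 := fun v => by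
    rw [Nat.card_zpowers]
    exact Nat.le_of_dvd two_pos (orderOf_dvd_of_pow_eq_one (by rw [pow_two, hV]))
  have h3 : Nat.card (zpowers (π a) ⊔ zpowers (π b) : Subgroup _) ≤
      Nat.card (zpowers (π a)) * Nat.card (zpowers (π b)) := by
    rw [← SetLike.coe_sort_coe, mul_normal]
    exact Set.natCard_mul_le
  rw [htop, Subgroup.card_top] at h3
  exact h3.trans (Nat.mul_le_mul (h2 _) (h2 _))

/-- A finite group of order properly dividing 168 is solvable. -/
theorem isSolvable_of_card_dvd_168 {K : Type*} [Group K] [Finite K] (hd : Nat.card K ∣ 168)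
    (hne : Nat.card K ≠ 168) : Group.IsSolvable K := by
  have hle := Nat.le_of_dvd (by norm_num) hd
  have hcases : Nat.card K ∣ 2 ^ 3 * 7 ^ 1 ∨ Nat.card K ∣ 2 ^ 3 * 3 ^ 1 ∨ Nat.card K ∣ 3 ^ 1 * 7 ^ 1 ∨
      Nat.card K = 42 ∨ Nat.card K = 84 := by
    revert hd hne
    interval_cases (Nat.card K) <;> decide
  rcases hcases with h | h | h | h
  · exact CfsgLib.Characters.isSolvable_of_card_eq_primePow_mul 2 7 3 1 Nat.prime_two (by norm_num) h
  · exact CfsgLib.Characters.isSolvable_of_card_eq_primePow_mul 2 3 3 1 Nat.prime_two Nat.prime_three h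
  · exact CfsgLib.Characters.isSolvable_of_card_eq_primePow_mul 3 7 1 1 Nat.prime_three (by norm_num) h
  · haveI : Fact (Nat.Prime 7) := ⟨by norm_num⟩
    let P : Sylow 7 K := default
    have hP7 : Nat.card (P : Subgroup K) = 7 := by
      obtain ⟨k, hk⟩ := IsPGroup.iff_card.1 P.isPGroup'
      have h1 := card_subgroup_dvd_card (P : Subgroup K)
      have h2 := P.dvd_card_of_dvd_card (show 7 ∣ Nat.card K by rcases h with h | h <;> rw [h] <;> norm_num)
      rw [hk] at h1 h2 ⊢
      have : k < 2 := by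
        by_contra hk2
        have := (Nat.pow_dvd_pow 7 (not_lt.1 hk2)).trans h1
        rcases h with h | h <;> rw [h] at this <;> norm_num at this
      interval_cases k
      · norm_num at h2
      · norm_num
    have hidx : (P : Subgroup K).index = 6 ∨ (P : Subgroup K).index = 12 := by
      have := (P : Subgroup K).index_mul_card
      rw [hP7] at this
      omega
    have hn7 : Nat.card (Sylow 7 K) = 1 := by
      have h1 := card_sylow_modEq_one 7 K
      have h2 := P.card_dvd_index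
      have h3 : Nat.card (Sylow 7 K) ≤ 12 := (Nat.le_of_dvd (by omega) h2).trans (by omega)
      unfold Nat.ModEq at h1
      rcases hidx with hi | hi <;> rw [hi] at h2 <;>
        interval_cases (Nat.card (Sylow 7 K)) <;> simp_all
    haveI : Subsingleton (Sylow 7 K) := (Nat.card_eq_one_iff_unique.1 hn7).1
    haveI := Sylow.normal_of_subsingleton P
    haveI : Group.IsSolvable (P : Subgroup K) := by
      haveI := P.isPGroup'.isNilpotent
      infer_instance
    haveI : Group.IsSolvable (K ⧸ (P : Subgroup K)) := by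
      refine CfsgLib.Characters.isSolvable_of_card_eq_primePow_mul 2 3 2 1 Nat.prime_two Nat.prime_three ?_
      rw [← index_eq_card]
      rcases hidx with hi | hi <;> rw [hi] <;> decide
    exact Group.isSolvable_of_ker_le_range (P : Subgroup K).subtype (QuotientGroup.mk' (P : Subgroup K))
      (by rw [range_subtype, QuotientGroup.ker_mk'])

include hS1 in
/-- `S` three-generated: either the range on the Frattini quotient is small, or Glauberman's (b). -/
theorem isSolvable_out_frattini {a b c : ↥(S : Subgroup G)}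
    (habc : closure ({a, b, c} : Set ↥(S : Subgroup G)) = ⊤)
    (hcase : Nat.card (↥(S : Subgroup G) ⧸ frattini ↥(S : Subgroup G)) ≤ 4 ∨
      ∃ g ∈ normalizer ((S : Subgroup G) : Set G), Odd (orderOf g) ∧
        g ∉ centralizer ((S : Subgroup G) : Set G)) :
    Group.IsSolvable (Cfsg.Out G) := by
  haveI : Fact (Nat.Prime 2) := ⟨Nat.prime_two⟩
  haveI := finite_mulAut G
  haveI := finite_mulAut ↥(S : Subgroup G)
  obtain ⟨hV, h8⟩ := card_frattini_quot_le S.isPGroup' habc
  haveI := finite_mulAut (↥(S : Subgroup G) ⧸ frattini ↥(S : Subgroup G))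
  set f := (frattiniAct ↥(S : Subgroup G)).comp (res S) with hf
  refine isSolvable_out_of_hom hS1 f ?_ ?_
  · have hle : f.ker.map (res S) ≤ (frattiniAct ↥(S : Subgroup G)).ker := by
      rintro _ ⟨m, hm, rfl⟩; exact hm
    haveI := (isPGroup_ker_frattiniAct (P := ↥(S : Subgroup G)) S.isPGroup').isNilpotent
    exact Group.isSolvable_of_isSolvable_injective (inclusion_injective hle)
  intro hn
  rcases le_or_gt (Nat.card (↥(S : Subgroup G) ⧸ frattini ↥(S : Subgroup G))) 4 with h4 | h4
  · haveI := CfsgLib.Inv54.isSolvable_perm_of_card_le_four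
      (α := ↥(S : Subgroup G) ⧸ frattini ↥(S : Subgroup G)) h4
    let e : MulAut (↥(S : Subgroup G) ⧸ frattini ↥(S : Subgroup G)) →*
        Equiv.Perm (↥(S : Subgroup G) ⧸ frattini ↥(S : Subgroup G)) :=
      { toFun := MulEquiv.toEquiv, map_one' := rfl, map_mul' := fun a b => rfl }
    haveI : Group.IsSolvable (MulAut (↥(S : Subgroup G) ⧸ frattini ↥(S : Subgroup G))) :=
      Group.isSolvable_of_isSolvable_injective (f := e) fun a b h => MulEquiv.ext fun x => Equiv.congr_fun h x
    infer_instance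
  obtain ⟨g, hgN, hgo, hgC⟩ := hcase.resolve_left (not_le.2 h4)
  have hc8 : Nat.card (↥(S : Subgroup G) ⧸ frattini ↥(S : Subgroup G)) = 2 ^ 3 := by
    obtain ⟨k, hk⟩ := exists_card_eq_two_pow hV (⊤ : Subgroup (↥(S : Subgroup G) ⧸ frattini ↥(S : Subgroup G)))
    rw [Subgroup.card_top] at hk
    have h1 : 2 ^ 2 < 2 ^ k := by rw [← hk]; simpa using h4
    have h2 : 2 ^ k ≤ 2 ^ 3 := by rw [← hk]; simpa using h8
    have := (Nat.pow_lt_pow_iff_right (a := 2) one_lt_two).1 h1
    have := (Nat.pow_le_pow_iff_right (a := 2) one_lt_two).1 h2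
    rw [hk, show k = 3 by omega]
  have hd : Nat.card f.range ∣ 168 := by
    refine (card_subgroup_dvd_card _).trans ?_
    have := card_mulAut_dvd hV hc8
    rwa [show ∏ i : Fin 3, (2 ^ 3 - 2 ^ (i : ℕ)) = 168 by decide] at this
  have hnt : (innS S).map f.rangeRestrict ≠ ⊥ := by
    intro hbot
    set m : stab S := ⟨MulAut.conj g, conj_mem_stab hgN⟩
    have h0 : f.rangeRestrict m ∈ (innS S).map f.rangeRestrict :=
      mem_map_of_mem f.rangeRestrict (show m ∈ innS S from ⟨g, rfl⟩)
    rw [hbot, mem_bot] at h0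
    have h1 : f m = 1 := Subtype.ext_iff.1 h0
    obtain ⟨j, hj⟩ := isPGroup_ker_frattiniAct (P := ↥(S : Subgroup G)) S.isPGroup' ⟨res S m, h1⟩
    have h2 : orderOf (res S m) ∣ 2 ^ j := orderOf_dvd_of_pow_eq_one (congrArg Subtype.val hj)
    have h3 : orderOf (res S m) ∣ orderOf g := by
      refine (orderOf_map_dvd (res S) m).trans ?_
      rw [← orderOf_coe m]
      exact orderOf_map_dvd MulAut.conj g
    have h5 : orderOf (res S m) = 1 :=
      Nat.eq_one_of_dvd_coprimes ((Nat.coprime_two_right.2 hgo).pow_right j) h3 h2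
    refine hgC (mem_centralizer_iff.2 fun s hs => ?_)
    have h6 := congrArg Subtype.val (DFunLike.congr_fun (orderOf_eq_one_iff.1 h5) ⟨s, hs⟩)
    have h7 : g * s * g⁻¹ = s := h6
    exact (mul_inv_eq_iff_eq_mul.1 h7).symm
  refine isSolvable_of_card_dvd_168 ((card_quotient_dvd_card _).trans hd) fun h => ?_
  refine hnt (card_eq_one.1 ?_)
  have h1 := card_eq_card_quotient_mul_card_subgroup ((innS S).map f.rangeRestrict)
  have h2 : Nat.card f.range ≤ 168 := Nat.le_of_dvd (by norm_num) hd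
  have h3 : 0 < Nat.card ((innS S).map f.rangeRestrict) := Nat.card_pos
  rw [h] at h1
  omega

/-! ### Commuting conjugate involutions -/

include hS1 in
/-- **Glauberman's third criterion.** -/
theorem isSolvable_out_commuting_involutions
    (hcomm : ∀ s ∈ S, ∀ t ∈ S, orderOf s = 2 → orderOf t = 2 → s * t = t * s)
    (hconj : ∀ s ∈ S, ∀ t ∈ S, orderOf s = 2 → orderOf t = 2 → ∃ g : G, g * s * g⁻¹ = t) :
    Group.IsSolvable (Cfsg.Out G) := by
  haveI : Fact (Nat.Prime 2) := ⟨Nat.prime_two⟩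
  haveI := finite_mulAut G
  haveI := finite_mulAut ↥(S : Subgroup G)
  have hsq : ∀ x : G, x * x = 1 → x = 1 ∨ orderOf x = 2 := fun x hx => by
    rcases eq_or_ne x 1 with h | h
    · exact Or.inl h
    · exact Or.inr (orderOf_eq_prime (by rw [pow_two]; exact hx) h)
  have hc' : ∀ s ∈ S, ∀ t ∈ S, s * s = 1 → t * t = 1 → s * t = t * s := by
    intro s hs t ht hs2 ht2
    rcases hsq s hs2 with rfl | h1
    · rw [one_mul, mul_one]
    rcases hsq t ht2 with rfl | h2
    · rw [one_mul, mul_one]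
    exact hcomm s hs t ht h1 h2
  let Ω : Subgroup G :=
    { carrier := {x | x ∈ S ∧ x * x = 1}
      one_mem' := ⟨one_mem _, one_mul 1⟩
      mul_mem' := fun {a b} ha hb => ⟨mul_mem ha.1 hb.1, by
        calc a * b * (a * b) = a * (b * a) * b := by group
          _ = a * (a * b) * b := by rw [hc' a ha.1 b hb.1 ha.2 hb.2]
          _ = (a * a) * (b * b) := by group
          _ = 1 := by rw [ha.2, hb.2, one_mul]⟩
      inv_mem' := fun {a} ha => ⟨inv_mem ha.1, by rw [← mul_inv_rev, ha.2, inv_one]⟩ }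
  have hV : ∀ v : Ω, v * v = 1 := fun v => Subtype.ext v.2.2
  haveI := finite_mulAut Ω
  -- automorphisms preserving `S` preserve `Ω`
  have hΩinv : ∀ m : stab S, Ω.map (m : MulAut G).toMonoidHom = Ω := by
    intro m
    ext x
    constructor
    · rintro ⟨y, hy, rfl⟩
      refine ⟨(res S m ⟨y, hy.1⟩).2, ?_⟩
      show (m : MulAut G) y * (m : MulAut G) y = 1
      rw [← map_mul, hy.2, map_one]
    · intro hx
      have h1 : x ∈ (S : Subgroup G).map (m : MulAut G).toMonoidHom := m.2.symm ▸ hx.1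
      obtain ⟨y, hy, rfl⟩ := h1
      refine ⟨y, ⟨hy, (m : MulAut G).injective ?_⟩, rfl⟩
      rw [map_mul, map_one]
      exact hx.2
  let f : stab S →* MulAut Ω := CfsgLib.Transitivity.restrictAction (stab S).subtype Ω hΩinv
  let Y₀ : Subgroup (MulAut Ω) := Ω.normalizerMonoidHom.range
  let X : Subgroup (MulAut Ω) := normalizer (Y₀ : Set (MulAut Ω))
  let Y : Subgroup X := Y₀.subgroupOf X
  haveI : Y.Normal := normal_subgroupOf_iff_le_normalizer (le_normalizer) |>.2 le_rfl
  -- weak closure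
  have htrans : ∀ v w : Ω, v ≠ 1 → w ≠ 1 → ∃ y ∈ Y, (y : MulAut Ω) v = w := by
    intro v w hv hw
    obtain ⟨g, hg⟩ := hconj v v.2.1 w w.2.1
      ((hsq v v.2.2).resolve_left fun e => hv (Subtype.ext e))
      ((hsq w w.2.2).resolve_left fun e => hw (Subtype.ext e))
    set C := centralizer ({(w : G)} : Set G) with hC
    have hΩC : Ω ≤ C := fun x hx => mem_centralizer_singleton_iff.2
      (hc' x hx.1 w w.2.1 hx.2 w.2.2)
    have hΩ'C : Ω.map (MulAut.conj g).toMonoidHom ≤ C := by
      rintro _ ⟨x, hx, rfl⟩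
      refine mem_centralizer_singleton_iff.2 ?_
      show g * x * g⁻¹ * w = w * (g * x * g⁻¹)
      rw [← hg, conj_mul, conj_mul, hc' x hx.1 v v.2.1 hx.2 v.2.2]
    have hΩp : IsPGroup 2 Ω := S.isPGroup'.to_le fun x hx => hx.1
    obtain ⟨P, hP⟩ := (hΩp.comap_subtype (K := C)).exists_le_sylow
    obtain ⟨P', hP'⟩ := ((hΩp.map (MulAut.conj g).toMonoidHom).comap_subtype (K := C)).exists_le_sylow
    obtain ⟨c, hc⟩ := MulAction.exists_smul_eq C P' P
    obtain ⟨R, hR⟩ := (P.isPGroup'.map C.subtype).exists_le_sylow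
    obtain ⟨k, hk⟩ := MulAction.exists_smul_eq G R S
    have hR' : ∀ x : G, x ∈ (R : Subgroup G) → x * x = 1 → k * x * k⁻¹ ∈ Ω := by
      intro x hx hx2
      refine ⟨?_, by rw [conj_mul, hx2, mul_one, mul_inv_cancel]⟩
      rw [← hk]
      exact ⟨x, hx, rfl⟩
    have hin : ∀ x ∈ Ω, k * x * k⁻¹ ∈ Ω := fun x hx =>
      hR' x (hR ⟨⟨x, hΩC hx⟩, hP hx, rfl⟩) hx.2
    have hkΩ : Ω.map (MulAut.conj k).toMonoidHom = Ω :=
      eq_of_le_of_card_ge (by rintro _ ⟨x, hx, rfl⟩; exact hin x hx)
        (card_map_of_injective (MulAut.conj k).injective).ge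
    have hcgin : ∀ x ∈ Ω, k * ((c : G) * (g * x * g⁻¹) * (c : G)⁻¹) * k⁻¹ ∈ Ω := by
      intro x hx
      refine hR' _ (hR ⟨c * ⟨g * x * g⁻¹, hΩ'C ⟨x, hx, rfl⟩⟩ * c⁻¹, ?_, rfl⟩) ?_
      · rw [← hc]
        exact ⟨_, hP' (show (⟨g * x * g⁻¹, hΩ'C ⟨x, hx, rfl⟩⟩ : C) ∈
          (Ω.map (MulAut.conj g).toMonoidHom).comap C.subtype from ⟨x, hx, rfl⟩), rfl⟩
      · rw [conj_mul, conj_mul, hx.2, mul_one, mul_inv_cancel, mul_one, mul_inv_cancel]
    have hN : (c : G) * g ∈ normalizer (Ω : Set G) := by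
      rw [mem_normalizer_iff]
      have hmap : Ω.map (MulAut.conj ((c : G) * g)).toMonoidHom = Ω := by
        refine eq_of_le_of_card_ge ?_ (card_map_of_injective (MulAut.conj _).injective).ge
        rintro _ ⟨x, hx, rfl⟩
        have h1 := hcgin x hx
        conv_lhs at h1 => rw [← hkΩ]
        obtain ⟨y, hy, hyx⟩ := h1
        have : y = (c : G) * (g * x * g⁻¹) * (c : G)⁻¹ := (MulAut.conj k).injective hyx
        show (c : G) * g * x * ((c : G) * g)⁻¹ ∈ Ω
        rw [show (c : G) * g * x * ((c : G) * g)⁻¹ = (c : G) * (g * x * g⁻¹) * (c : G)⁻¹ by group, ← this]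
        exact hy
      intro x
      constructor
      · exact fun hx => hmap.le ⟨x, hx, rfl⟩
      · intro hx
        obtain ⟨y, hy, hyx⟩ := hmap.ge hx
        have : y = x := (MulAut.conj ((c : G) * g)).injective hyx
        exact this ▸ hy
    refine ⟨⟨Ω.normalizerMonoidHom ⟨_, hN⟩, le_normalizer ⟨_, rfl⟩⟩, ⟨_, rfl⟩, Subtype.ext ?_⟩
    show (c : G) * g * v * ((c : G) * g)⁻¹ = w
    rw [show (c : G) * g * v * ((c : G) * g)⁻¹ = (c : G) * (g * v * g⁻¹) * (c : G)⁻¹ by group, hg,
      mem_centralizer_singleton_iff.1 c.2, mul_inv_cancel_right]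
  haveI := isSolvable_quot_of_transitive hV X Y htrans
  refine isSolvable_out_of_hom hS1 f ?_ ?_
  · refine isSolvable_of_fix_involutions S.isPGroup' _ ?_
    rintro _ ⟨m, hm, rfl⟩ s hs
    exact Subtype.ext (congrArg (fun x : Ω => (x : G))
      (DFunLike.congr_fun (MonoidHom.mem_ker.1 hm) ⟨(s : G), s.2, congrArg Subtype.val hs⟩))
  intro hnorm
  -- the image lies in `X`
  have hmN : ∀ (m : stab S) (a : G), a ∈ normalizer (Ω : Set G) →
      (m : MulAut G) a ∈ normalizer (Ω : Set G) := by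
    intro m a ha
    have h1 : (m : MulAut G).toMonoidHom a ∈
        normalizer ((Ω.map (m : MulAut G).toMonoidHom : Subgroup G) : Set G) :=
      le_normalizer_map _ ⟨a, ha, rfl⟩
    rw [hΩinv] at h1
    exact h1
  have hcomp : ∀ (m : stab S) (a : normalizer (Ω : Set G)),
      f m * Ω.normalizerMonoidHom a * (f m)⁻¹ =
        Ω.normalizerMonoidHom ⟨(m : MulAut G) a, hmN m a a.2⟩ := by
    intro m a
    refine MulEquiv.ext fun x => Subtype.ext ?_
    show (m : MulAut G) ((a : G) * ((f m)⁻¹ x : Ω) * (a : G)⁻¹) =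
      (m : MulAut G) a * x * ((m : MulAut G) a)⁻¹
    rw [map_mul, map_mul, map_inv]
    have : (m : MulAut G) (((f m)⁻¹ x : Ω) : G) = x :=
      congrArg Subtype.val (MulAut.apply_inv_self _ (f m) x)
    rw [this]
  have hfX : ∀ m, f m ∈ X := by
    intro m
    refine mem_normalizer_iff.2 fun y => ⟨?_, fun hy => ?_⟩
    · rintro ⟨a, rfl⟩
      exact ⟨_, (hcomp m a).symm⟩
    · obtain ⟨a, ha⟩ := hy
      refine ⟨⟨(m⁻¹ : stab S).1 a, hmN m⁻¹ a a.2⟩, ?_⟩
      rw [← hcomp m⁻¹ a, ha, map_inv, inv_inv]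
      group
  let φ : f.range →* X ⧸ Y :=
    (QuotientGroup.mk' Y).comp (f.range.subtype.codRestrict X fun x => by
      obtain ⟨m, hm⟩ := x.2
      show (x : MulAut Ω) ∈ X
      rw [← hm]
      exact hfX m)
  have hker : φ.ker ≤ (innS S).map f.rangeRestrict := by
    rintro ⟨_, m, rfl⟩ hm
    obtain ⟨a, ha⟩ := (QuotientGroup.eq_one_iff _).1 (MonoidHom.mem_ker.1 hm)
    have ha' : Ω.normalizerMonoidHom a = f m := ha
    have hSN : ∀ s ∈ S, s ∈ normalizer (Ω : Set G) := by
      intro s hs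
      rw [mem_normalizer_iff]
      intro x
      refine ⟨fun hx => ⟨mul_mem (mul_mem hs hx.1) (inv_mem hs), ?_⟩, fun hx => ⟨?_, ?_⟩⟩
      · rw [conj_mul, hx.2, mul_one, mul_inv_cancel]
      · have := mul_mem (mul_mem (inv_mem hs) hx.1) hs
        rwa [show s⁻¹ * (s * x * s⁻¹) * s = x by group] at this
      · have := hx.2
        rwa [conj_mul, mul_inv_eq_one, mul_eq_left] at this
    let H : Subgroup G := (((S : Subgroup G).subgroupOf (normalizer (Ω : Set G))).map
      Ω.normalizerMonoidHom).comap Ω.normalizerMonoidHom |>.map (normalizer (Ω : Set G)).subtype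
    have hSH : (S : Subgroup G) ≤ H := fun s hs =>
      ⟨⟨s, hSN s hs⟩, ⟨⟨s, hSN s hs⟩, hs, rfl⟩, rfl⟩
    have haS : ((MulAut.conj (a : G) • S : Sylow 2 G) : Subgroup G) ≤ H := by
      rintro _ ⟨s, hs, rfl⟩
      have hms : (m : MulAut G) s ∈ S := (res S m ⟨s, hs⟩).2
      refine ⟨⟨(a : G) * s * (a : G)⁻¹, mul_mem (mul_mem a.2 (hSN s hs)) (inv_mem a.2)⟩,
        ⟨⟨_, hSN _ hms⟩, hms, ?_⟩, rfl⟩
      rw [← hcomp m ⟨s, hSN s hs⟩, ← ha', ← map_inv, ← map_mul, ← map_mul]
      rfl
    obtain ⟨h, hh⟩ := MulAction.exists_smul_eq H ((MulAut.conj (a : G) • S).subtype haS) (S.subtype hSH)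
    obtain ⟨h₀, ⟨s, hs, hsρ⟩, hh₀⟩ := h.2
    have hs' : (s : G) ∈ S := hs
    have hh₀H : (h₀ : G) ∈ H := (show (h₀ : G) = h from hh₀).symm ▸ h.2
    set a' : normalizer (Ω : Set G) := s⁻¹ * h₀ * a with ha'd
    have hin : ∀ x ∈ S, (a' : G) * x * (a' : G)⁻¹ ∈ S := by
      intro x hx
      have hx' : (a : G) * x * (a : G)⁻¹ ∈ ((MulAut.conj (a : G) • S : Sylow 2 G) : Subgroup G) :=
        ⟨x, hx, rfl⟩
      have h1 : (⟨(h₀ : G) * ((a : G) * x * (a : G)⁻¹) * (h₀ : G)⁻¹,
          mul_mem (mul_mem hh₀H (haS hx')) (inv_mem hh₀H)⟩ : H)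
            ∈ (S.subtype hSH : Subgroup H) := by
        rw [← hh]
        exact ⟨⟨_, haS hx'⟩, hx', Subtype.ext (by
          show (h : G) * ((a : G) * x * (a : G)⁻¹) * (h : G)⁻¹ =
            (h₀ : G) * ((a : G) * x * (a : G)⁻¹) * (h₀ : G)⁻¹
          rw [show ((h : H) : G) = h₀ from hh₀.symm])⟩
      have h2 : (h₀ : G) * ((a : G) * x * (a : G)⁻¹) * (h₀ : G)⁻¹ ∈ S := h1
      have := mul_mem (mul_mem (inv_mem hs') h2) hs'
      convert this using 1
      simp only [ha'd, Subgroup.coe_mul, Subgroup.coe_inv]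
      group
    have hmap : (S : Subgroup G).map (MulAut.conj (a' : G)).toMonoidHom = S :=
      eq_of_le_of_card_ge (by rintro _ ⟨x, hx, rfl⟩; exact hin x hx)
        (card_map_of_injective (MulAut.conj (a' : G)).injective).ge
    refine ⟨⟨MulAut.conj (a' : G), hmap⟩, ⟨(a' : G), rfl⟩, Subtype.ext ?_⟩
    show f ⟨MulAut.conj (a' : G), hmap⟩ = f m
    rw [show f ⟨MulAut.conj (a' : G), hmap⟩ = Ω.normalizerMonoidHom a' from
      MulEquiv.ext fun x => Subtype.ext rfl, ha'd, map_mul, map_mul,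
      ← hsρ, map_inv, inv_mul_cancel, one_mul, ha']
  haveI : Group.IsSolvable (φ.range) := inferInstance
  let φ' : f.range ⧸ φ.ker ≃* φ.range := QuotientGroup.quotientKerEquivRange φ
  haveI : Group.IsSolvable (f.range ⧸ φ.ker) :=
    Group.isSolvable_of_isSolvable_injective (f := φ'.toMonoidHom) φ'.injective
  refine Group.isSolvable_of_surjective (f := QuotientGroup.map φ.ker _ (MonoidHom.id _) hker) ?_
  intro x
  obtain ⟨y, rfl⟩ := QuotientGroup.mk_surjective x
  exact ⟨y, rfl⟩

end CfsgLib.OutTwo
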