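import Cfsg.Agent.OutTwo.Anisotropic
import Cfsg.Agent.FrobComp.NonSolvable
import Cfsg.Agent.Solvable.Frattini
import Cfsg.Agent.Transitivity.OrderFormula

/-!
# Automorphisms of a 2-group fixing every involution

`isSolvable_of_fix_involutions`: they form a solvable group.
-/

set_option autoImplicit false
set_option linter.style.haveILetI false

namespace CfsgLib.OutTwo

open Subgroup
open scoped commutatorElement

universe u v

/-- A perfect group has no non-trivial homomorphism to a solvable group. -/
theorem hom_eq_one {P H : Type*} [Group P] [Group H] (hH : Group.IsSolvable H)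
    (hP : commutator P = ⊤) (f : P →* H) (p : P) : f p = 1 := by
  obtain ⟨n, hn⟩ := (Group.isSolvable_def H).1 hH
  have hd : ∀ k, derivedSeries P k = ⊤ := by
    intro k
    induction k with
    | zero => exact derivedSeries_zero P
    | succ k ih => rw [derivedSeries_succ, ih]; exact hP
  have := map_derivedSeries_le_derivedSeries f n (mem_map_of_mem f (show p ∈ derivedSeries P n by
    rw [hd n]; exact mem_top p))
  rw [hn] at this
  exact this

variable {P : Type v} [Group P] [Finite P]

/-- **A perfect group fixing all involutions of a 2-group acts trivially on it.** -/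
theorem fix_of_perfect (hP : commutator P = ⊤) :
    ∀ (n : ℕ) {S : Type u} [Group S] [Finite S], Nat.card S = n → IsPGroup 2 S →
      ∀ f : P →* MulAut S, (∀ p s, s * s = 1 → f p s = s) → ∀ p s, f p s = s := by
  intro n
  induction n using Nat.strong_induction_on with
  | _ n ih =>
  intro S _ _ hn hS f hfix
  subst hn
  classical
  haveI : Fact (Nat.Prime 2) := ⟨Nat.prime_two⟩
  haveI : Group.IsNilpotent S := hS.isNilpotent
  haveI hsolS : Group.IsSolvable S := inferInstance
  have hfmul : ∀ p q s, f (p * q) s = f p (f q s) := fun p q s => by rw [map_mul]; rfl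
  -- proper invariant subgroups are fixed
  have hsub : ∀ H : Subgroup S, H ≠ ⊤ → (∀ p, ∀ s ∈ H, f p s ∈ H) → ∀ p, ∀ s ∈ H, f p s = s := by
    intro H hH hinv
    have hmap : ∀ p, H.map (f p).toMonoidHom = H := fun p => by
      refine le_antisymm ?_ fun s hs => ?_
      · rintro _ ⟨s, hs, rfl⟩
        exact hinv p s hs
      · refine ⟨f p⁻¹ s, hinv _ s hs, ?_⟩
        show f p (f p⁻¹ s) = s
        rw [← hfmul, mul_inv_cancel, map_one, MulAut.one_apply]
    have hlt : Nat.card H < Nat.card S := by
      have h1 := Nat.le_of_dvd Nat.card_pos (card_subgroup_dvd_card H)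
      rcases h1.lt_or_eq with h | h
      · exact h
      · exact absurd (eq_top_of_card_eq H h) hH
    intro p s hs
    exact congrArg Subtype.val (ih _ hlt rfl (hS.to_subgroup H)
      (CfsgLib.Transitivity.restrictAction f H hmap)
      (fun p x hx => Subtype.ext (hfix p x (congrArg Subtype.val hx))) p ⟨s, hs⟩)
  let D : Subgroup S := closure {d | ∃ p s, d = s⁻¹ * f p s}
  have hDinv : ∀ p, ∀ s ∈ D, f p s ∈ D := by
    intro p
    suffices h : D ≤ D.comap (f p).toMonoidHom from fun s hs => h hs
    refine (closure_le _).2 ?_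
    rintro _ ⟨q, s, rfl⟩
    show f p (s⁻¹ * f q s) ∈ D
    rw [show f p (s⁻¹ * f q s) = (s⁻¹ * f p s)⁻¹ * (s⁻¹ * f (p * q) s) by rw [hfmul, map_mul, map_inv]; group]
    exact mul_mem (inv_mem (subset_closure ⟨p, s, rfl⟩)) (subset_closure ⟨p * q, s, rfl⟩)
  by_cases hDtop : D = ⊤
  swap
  · -- the displacement is a homomorphism
    intro p s
    have hfixD := hsub D hDtop hDinv
    let φ : P →* S :=
      { toFun := fun p => s⁻¹ * f p s
        map_one' := by rw [map_one, MulAut.one_apply, inv_mul_cancel]
        map_mul' := fun a b => by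
          show s⁻¹ * f (a * b) s = (s⁻¹ * f a s) * (s⁻¹ * f b s)
          have e : f b s = s * (s⁻¹ * f b s) := by group
          have e2 := hfixD a (s⁻¹ * f b s) (subset_closure ⟨b, s, rfl⟩)
          rw [hfmul]
          conv_lhs => rw [e, map_mul, e2]
          group }
    have := hom_eq_one hsolS hP φ p
    exact (inv_mul_eq_one.1 this).symm
  · -- the fixed points
    let C : Subgroup S :=
      { carrier := {s | ∀ p, f p s = s}
        one_mem' := fun p => map_one _
        mul_mem' := fun ha hb p => by rw [map_mul, ha p, hb p]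
        inv_mem' := fun ha p => by rw [map_inv, ha p] }
    by_contra hcon
    push Not at hcon
    have hCtop : C ≠ ⊤ := by
      intro h
      obtain ⟨p, s, hps⟩ := hcon
      exact hps ((h ▸ mem_top s : s ∈ C) p)
    haveI hSnt : Nontrivial S := by
      obtain ⟨p, s, hps⟩ := hcon
      exact ⟨⟨_, _, hps⟩⟩
    let Q : Subgroup S := closure {d | ∃ s, d = s * s}
    have hQ : Q ≠ ⊤ := by
      obtain ⟨M, hM, -⟩ := CfsgLib.Solvable.exists_coatom_ge (H := (⊥ : Subgroup S)) bot_ne_top
      intro h
      refine hM.1 (top_le_iff.1 (h ▸ (closure_le _).2 ?_))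
      rintro _ ⟨s, rfl⟩
      rw [← pow_two]
      exact CfsgLib.Solvable.mem_frattini_iff.1 (CfsgLib.Solvable.pow_mem_frattini hS s) M hM
    have hQinv : ∀ p, ∀ s ∈ Q, f p s ∈ Q := by
      intro p
      suffices h : Q ≤ Q.comap (f p).toMonoidHom from fun s hs => h hs
      refine (closure_le _).2 ?_
      rintro _ ⟨s, rfl⟩
      exact subset_closure ⟨f p s, map_mul _ _ _⟩
    have hsqC : ∀ s : S, s * s ∈ C := fun s p => hsub Q hQ hQinv p _ (subset_closure ⟨s, rfl⟩)
    have hcomC : ∀ s t : S, s * t * s⁻¹ * t⁻¹ ∈ C := by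
      intro s t
      rw [show s * t * s⁻¹ * t⁻¹ =
        (s * t * (s * t)) * ((t⁻¹ * s⁻¹ * t) * (t⁻¹ * s⁻¹ * t)) * (t⁻¹ * t⁻¹) by group]
      exact mul_mem (mul_mem (hsqC _) (hsqC _)) (hsqC _)
    -- the fixed points are central
    have hcen : ∀ c ∈ C, ∀ s : S, c * s = s * c := by
      intro c hc
      suffices h : D ≤ centralizer {c} from fun s =>
        (mem_centralizer_singleton_iff.1 (h (hDtop ▸ mem_top s))).symm
      refine (closure_le _).2 ?_
      rintro _ ⟨p, s, rfl⟩
      rw [SetLike.mem_coe, mem_centralizer_singleton_iff]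
      have hc' : s * c * s⁻¹ ∈ C := by
        rw [show s * c * s⁻¹ = (s * c * s⁻¹ * c⁻¹) * c by group]
        exact mul_mem (hcomC s c) hc
      have h1 := hc' p
      rw [map_mul, map_mul, map_inv, hc p] at h1
      calc s⁻¹ * f p s * c = s⁻¹ * (f p s * c * (f p s)⁻¹) * f p s := by group
        _ = s⁻¹ * (s * c * s⁻¹) * f p s := by rw [h1]
        _ = c * (s⁻¹ * f p s) := by group
    haveI hCn : C.Normal := ⟨fun c hc s => by
      rw [← hcen c hc s, mul_inv_cancel_right]; exact hc⟩
    let sq : C →* C :=
      { toFun := fun c => c * c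
        map_one' := one_mul 1
        map_mul' := fun a b => by
          have hab : a * b = b * a := Subtype.ext (hcen a a.2 b)
          calc a * b * (a * b) = a * (b * a) * b := by group
            _ = a * (a * b) * b := by rw [hab]
            _ = a * a * (b * b) := by group }
    haveI : sq.range.Normal := ⟨fun c hc d => by
      have : d * c * d⁻¹ = c := by
        rw [show d * c = c * d from Subtype.ext (hcen d d.2 c)]; group
      rw [this]; exact hc⟩
    let π : S → C ⧸ sq.range := fun s => QuotientGroup.mk ⟨s * s, hsqC s⟩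
    let Q₀ : S ⧸ C → C ⧸ sq.range := Quotient.lift π fun s t h => by
      have hc : s⁻¹ * t ∈ C := QuotientGroup.leftRel_apply.1 h
      set c := s⁻¹ * t with hcd
      have ht : t = s * c := by rw [hcd]; group
      refine (QuotientGroup.eq).2 ⟨⟨c, hc⟩, Subtype.ext ?_⟩
      show c * c = (s * s)⁻¹ * (t * t)
      rw [ht, show s * c * (s * c) = s * (c * s) * c by group, hcen c hc s]
      group
    -- polarisation
    let k : S → S → C := fun s t => ⟨s⁻¹ * t * s * t⁻¹, by
      have := hcomC s⁻¹ t
      rwa [inv_inv] at this⟩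
    have hkz : ∀ s t x, (k s t : S) * x = x * (k s t : S) := fun s t x => hcen _ (k s t).2 x
    have hk1 : ∀ s s' t, k (s * s') t = k s t * k s' t := fun s s' t => by
      refine Subtype.ext ?_
      show (s * s')⁻¹ * t * (s * s') * t⁻¹ = (k s t : S) * (k s' t : S)
      calc (s * s')⁻¹ * t * (s * s') * t⁻¹ = s'⁻¹ * ((k s t : S) * (t * s' * t⁻¹)) := by
            show _ = s'⁻¹ * (s⁻¹ * t * s * t⁻¹ * (t * s' * t⁻¹)); group
        _ = (k s t : S) * (s'⁻¹ * t * s' * t⁻¹) := by rw [← mul_assoc, ← hkz s t s'⁻¹]; group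
    have hk2 : ∀ s t t', k s (t * t') = k s t * k s t' := fun s t t' => by
      refine Subtype.ext ?_
      show s⁻¹ * (t * t') * s * (t * t')⁻¹ = (k s t : S) * (k s t' : S)
      calc s⁻¹ * (t * t') * s * (t * t')⁻¹ = s⁻¹ * t * (s * (k s t' : S)) * t⁻¹ := by
            show _ = s⁻¹ * t * (s * (s⁻¹ * t' * s * t'⁻¹)) * t⁻¹; group
        _ = (k s t : S) * (k s t' : S) := by
            show _ = s⁻¹ * t * s * t⁻¹ * (k s t' : S)
            rw [show s⁻¹ * t * (s * (k s t' : S)) * t⁻¹ = s⁻¹ * t * s * ((k s t' : S) * t⁻¹) by group,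
              hkz s t' t⁻¹]
            group
    have hsqmul : ∀ s t, π (s * t) = π s * π t * QuotientGroup.mk (k s t) := fun s t => by
      show QuotientGroup.mk _ = QuotientGroup.mk _
      refine congrArg _ (Subtype.ext ?_)
      show s * t * (s * t) = s * s * (t * t) * (k s t : S)
      calc s * t * (s * t) = s * s * (k s t : S) * (t * t) := by
            show _ = s * s * (s⁻¹ * t * s * t⁻¹) * (t * t); group
        _ = _ := by rw [mul_assoc, hkz s t (t * t), ← mul_assoc]
    -- additive notation
    letI : CommGroup (S ⧸ C) :=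
      { (inferInstance : Group (S ⧸ C)) with
        mul_comm := fun a b => by
          obtain ⟨s, rfl⟩ := QuotientGroup.mk_surjective a
          obtain ⟨t, rfl⟩ := QuotientGroup.mk_surjective b
          rw [← QuotientGroup.mk_mul, ← QuotientGroup.mk_mul, QuotientGroup.eq]
          have := hcomC t⁻¹ s⁻¹
          rw [inv_inv, inv_inv] at this
          convert this using 1
          group }
    letI : CommGroup (C ⧸ sq.range) :=
      { (inferInstance : Group (C ⧸ sq.range)) with
        mul_comm := fun a b => by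
          obtain ⟨s, rfl⟩ := QuotientGroup.mk_surjective a
          obtain ⟨t, rfl⟩ := QuotientGroup.mk_surjective b
          rw [← QuotientGroup.mk_mul, ← QuotientGroup.mk_mul]
          exact congrArg _ (Subtype.ext (hcen s s.2 t)) }
    let q : Additive (S ⧸ C) → Additive (C ⧸ sq.range) := fun x => Additive.ofMul (Q₀ x.toMul)
    let B : Additive (S ⧸ C) → Additive (S ⧸ C) → Additive (C ⧸ sq.range) :=
      fun x y => q (x + y) - q x - q y
    have hB : ∀ s t : S, B (Additive.ofMul (s : S ⧸ C)) (Additive.ofMul (t : S ⧸ C)) =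
        Additive.ofMul (QuotientGroup.mk (k s t)) := fun s t => by
      show Additive.ofMul (π (s * t)) - Additive.ofMul (π s) - Additive.ofMul (π t) = _
      rw [hsqmul, ofMul_mul, ofMul_mul]
      abel
    have hsur : ∀ x : Additive (S ⧸ C), ∃ s : S, Additive.ofMul (s : S ⧸ C) = x := fun x =>
      QuotientGroup.mk_surjective x.toMul
    have hpol : ∀ x y, q (x + y) = q x + q y + B x y := fun x y => by
      show _ = q x + q y + (q (x + y) - q x - q y); abel
    have Badd : ∀ x y z, B (x + y) z = B x z + B y z := fun x y z => by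
      obtain ⟨s, rfl⟩ := hsur x
      obtain ⟨s', rfl⟩ := hsur y
      obtain ⟨t, rfl⟩ := hsur z
      rw [← ofMul_mul, ← QuotientGroup.mk_mul, hB, hB, hB, hk1, QuotientGroup.mk_mul, ofMul_mul]
    have hW2 : ∀ x : Additive (S ⧸ C), x + x = 0 := fun x => by
      obtain ⟨s, rfl⟩ := hsur x
      rw [← ofMul_mul, ← QuotientGroup.mk_mul, (QuotientGroup.eq_one_iff _).2 (hsqC s)]
      rfl
    have hA2 : ∀ x : Additive (C ⧸ sq.range), x + x = 0 := fun x => by
      obtain ⟨c, hc⟩ := QuotientGroup.mk_surjective x.toMul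
      show Additive.ofMul (x.toMul * x.toMul) = 0
      rw [← hc, ← QuotientGroup.mk_mul,
        (QuotientGroup.eq_one_iff (N := sq.range) (c * c)).2 ⟨c, rfl⟩]
      rfl
    have h0 : ∀ x, q x = 0 → x = 0 := fun x hx => by
      obtain ⟨s, rfl⟩ := hsur x
      obtain ⟨c, hc⟩ : (⟨s * s, hsqC s⟩ : C) ∈ sq.range :=
        (QuotientGroup.eq_one_iff _).1 (Additive.ofMul.injective hx)
      have hc' : (c : S) * c = s * s := congrArg Subtype.val hc
      have hs : (s * (c : S)⁻¹) ∈ C := fun p => hfix p _ (by
        rw [show s * (c : S)⁻¹ * (s * (c : S)⁻¹) = s * ((c : S)⁻¹ * s) * (c : S)⁻¹ by group,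
          hcen _ (inv_mem c.2) s, show s * (s * (c : S)⁻¹) * (c : S)⁻¹ = s * s * ((c : S) * c)⁻¹ by group,
          hc', mul_inv_cancel])
      have hsC : s ∈ C := by
        have := mul_mem hs c.2
        rwa [inv_mul_cancel_right] at this
      rw [(QuotientGroup.eq_one_iff _).2 hsC]
      rfl
    -- the action on the quotient
    have hCmap : ∀ p, C ≤ C.comap (f p).toMonoidHom := fun p c hc => by
      show f p c ∈ C
      rw [hc p]; exact hc
    let act : P → (Additive (S ⧸ C) →+ Additive (S ⧸ C)) := fun p =>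
      MonoidHom.toAdditive (QuotientGroup.map C C (f p).toMonoidHom (hCmap p))
    have hact : ∀ p (s : S), act p (Additive.ofMul (s : S ⧸ C)) = Additive.ofMul ((f p s : S) : S ⧸ C) :=
      fun p s => rfl
    let K : Subgroup P :=
      { carrier := {p | ∀ x, act p x = x}
        one_mem' := fun x => by
          obtain ⟨s, rfl⟩ := hsur x
          rw [hact, map_one, MulAut.one_apply]
        mul_mem' := fun {a b} ha hb x => by
          obtain ⟨s, rfl⟩ := hsur x
          rw [hact, hfmul, ← hact, ← hact, hb, ha]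
        inv_mem' := fun {a} ha x => by
          obtain ⟨s, rfl⟩ := hsur x
          conv_lhs => rw [← ha (Additive.ofMul (s : S ⧸ C)), hact, hact, ← hfmul, inv_mul_cancel,
            map_one, MulAut.one_apply] }
    haveI : K.Normal := ⟨fun a ha b x => by
      obtain ⟨s, rfl⟩ := hsur x
      rw [hact, hfmul, hfmul, ← hact, ← hact, ha, hact, ← hact, hact, ← hfmul, mul_inv_cancel,
        map_one, MulAut.one_apply]⟩
    let a : P ⧸ K → (Additive (S ⧸ C) →+ Additive (S ⧸ C)) := Quotient.lift act fun p p' h => by
      have h' : ∀ x, act (p⁻¹ * p') x = x := QuotientGroup.leftRel_apply.1 h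
      refine AddMonoidHom.ext fun x => ?_
      obtain ⟨s, rfl⟩ := hsur x
      conv_lhs => rw [← h' (Additive.ofMul (s : S ⧸ C)), hact, hact, ← hfmul, mul_inv_cancel_left,
        ← hact]
    have ha : ∀ p, a (QuotientGroup.mk p) = act p := fun p => rfl
    have hsolK : Group.IsSolvable (P ⧸ K) := by
      refine isSolvable_of_anisotropic (a := a) (q := q) (B := B) (L := P ⧸ K) ?_ ?_ hW2 hA2 hpol
        Badd h0 ?_ ?_
      · intro x
        exact K.one_mem x
      · intro g h x
        obtain ⟨p, rfl⟩ := QuotientGroup.mk_surjective g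
        obtain ⟨p', rfl⟩ := QuotientGroup.mk_surjective h
        obtain ⟨s, rfl⟩ := hsur x
        rw [← QuotientGroup.mk_mul, ha, ha, ha, hact, hact, hact, hfmul]
      · intro g x
        obtain ⟨p, rfl⟩ := QuotientGroup.mk_surjective g
        obtain ⟨s, rfl⟩ := hsur x
        rw [ha, hact]
        show Additive.ofMul (π (f p s)) = Additive.ofMul (π s)
        refine congrArg Additive.ofMul (congrArg QuotientGroup.mk (Subtype.ext ?_))
        show f p s * f p s = s * s
        rw [← map_mul]
        exact hsqC s p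
      · intro g hg
        obtain ⟨p, rfl⟩ := QuotientGroup.mk_surjective g
        exact (QuotientGroup.eq_one_iff _).2 fun x => hg x
    refine hCtop (top_le_iff.1 (hDtop ▸ (closure_le _).2 ?_))
    rintro _ ⟨p, s, rfl⟩
    have h1 : p ∈ K := (QuotientGroup.eq_one_iff _).1 (hom_eq_one hsolK hP (QuotientGroup.mk' K) p)
    have h2 := Additive.ofMul.injective ((hact p s).symm.trans (h1 (Additive.ofMul (s : S ⧸ C))))
    exact QuotientGroup.eq.1 h2.symm

/-- **Automorphisms fixing every involution of a 2-group form a solvable group.** -/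
theorem isSolvable_of_fix_involutions {S : Type u} [Group S] [Finite S] (hS : IsPGroup 2 S)
    (H : Subgroup (MulAut S)) (hfix : ∀ φ ∈ H, ∀ s, s * s = 1 → φ s = s) : Group.IsSolvable H := by
  by_contra hns
  haveI : Finite (MulAut S) :=
    Finite.of_injective (fun φ : MulAut S => (φ : S → S)) DFunLike.coe_injective
  obtain ⟨N, -, hNnt, hN⟩ := CfsgLib.FrobComp.exists_perfect_residual hns
  obtain ⟨x, hx⟩ := exists_ne (1 : N)
  have h := fix_of_perfect hN _ rfl hS (H.subtype.comp N.subtype)
    (fun p s hs => hfix _ (p : H).2 s hs) x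
  exact hx (Subtype.ext (Subtype.ext (MulEquiv.ext h)))

end CfsgLib.OutTwo
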